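import Cfsg.Agent.H737.EPO.OwnB

/-!
# S5745 / S3499, OWN characteristic: relative rank one (helper737)

If the only invariant type different from `I` is `∅`, then for all the nodes `j` the parabolic subgroup `P_j` is not
invariant, and the vectors of `D = O_p` over `V_j` are a panel of `P_j`, so `p = 2` and `|U : V_j| = 2`.
-/

set_option autoImplicit false
set_option linter.unusedSectionVars false

namespace Cfsg.Agent.H737.EPO

open Cfsg.Agent.H284 Cfsg.Agent.H209.EPX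
open scoped Pointwise

section

variable {G Y : Type*} [Group G] [Finite G] [Group Y] [Finite Y] {H N R D W : Subgroup G} {k : ℕ}
  (e : N ≃* (Fin k → Y)) {p : ℕ} {I : Type*} {S : PSys Y p I} [Fact p.Prime]

variable [IsSimpleGroup Y] (hY : ∃ a b : Y, a * b ≠ b * a)

include hY

/-- the stabiliser of a vector over `V_J`, in relative rank one -/
theorem vec_stab [Nonempty I] (h : EP H) (hN : MinN N H)
    (hrel : ∀ L : Fin k → Set I, Inv H e S L → (∀ i, L i ≠ Set.univ) → L = fun _ => ∅) {J : Fin k → Set I}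
    (hJ : ∀ i, J i ≠ Set.univ) (hVD : VV e S J ≤ D) (hDP : D ≤ PH H e S J) (v : VecB H (PH H e S J) D W p) {w : G}
    (hw : w ∈ W) (hwD : w ∉ D) : ∃ a ∈ PP e S J, (H ⊓ cj w H) ⊓ N = cj a (PP e S fun _ => ∅) := by
  have hM : MX H N (H ⊓ cj w H) := mx_of_two h hN ⟨w, v.notMem_H hw hwD, rfl⟩
  have hDH : D ≤ H := hDP.trans inf_le_left
  have hDw : cj w D = D := cj_eq_of_nm (v.WD w hw)
  have hDM : D ≤ H ⊓ cj w H := by
    refine le_inf hDH ?_
    rw [← hDw]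
    exact cj_mono hDH
  obtain ⟨L, n, hn, hL, hMN⟩ := KL e S hY hN hM hJ (g := fun _ => 1) (fun i => by
    rw [cj_one]
    intro t ht
    exact hDM (hVD ((sg_mem_pk e).2 ht)))
  have hM' := hM.cj hN.nrm (inv_mem (hN.le hn))
  have hNn : cj n⁻¹ N = N := cj_eq_self (inv_mem hn)
  have hMN' : cj n⁻¹ (H ⊓ cj w H) ⊓ N = PP e S L := by
    have h1 : cj n⁻¹ (H ⊓ cj w H) ⊓ cj n⁻¹ N = PP e S L := by rw [← cj_inf, hMN, cj_inv_cj]
    rwa [hNn] at h1
  obtain ⟨L', hL'1, hL'2, hL'3, -, -⟩ := std e S hY hN hM' (by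
    refine (VV_le_PP' e S _ L).trans ?_
    rw [← hMN']
    exact inf_le_left)
  have hLL : L = L' := PP_inj e S (hMN'.symm.trans hL'2)
  have hL0 : L = fun _ => ∅ := by
    rw [hLL]
    exact hrel L' hL'3 hL'1
  rw [hL0] at hMN
  have hVJ : VV e S J ≤ cj n (PP e S fun _ => ∅) := by
    rw [← hMN]
    exact le_inf (hVD.trans hDM) (VV_le e S J)
  obtain ⟨a, ha, b, hb, rfl⟩ := PP_dec e S hn hVJ
  refine ⟨a, ha, ?_⟩
  rw [hMN, cj_mul, cj_eq_self hb]

/-- **relative rank one** -/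
theorem rel_one (hS : Rk S) (h : EP H) (hN : MinN N H)
    (hrel : ∀ L : Fin k → Set I, Inv H e S L → (∀ i, L i ≠ Set.univ) → L = fun _ => ∅) {i₀ : Fin k} {j₀ : I}
    (hJ : ∀ i, sgl i₀ j₀ i ≠ Set.univ) (hDQ : DQ H e S (sgl i₀ j₀)) :
    p = 2 ∧ (S.V {j₀}).relIndex (S.V ∅) = 2 := by
  classical
  have : Nonempty I := ⟨j₀⟩
  obtain ⟨D, Q, hVD, hDP, hDp, hDn, hQp, hQn, hDQ', hQH, hQD⟩ := hDQ
  obtain ⟨W, -, hWD, v⟩ := exists_vecB (Fact.out : p.Prime) hDn hQp hQn hDQ' hQH hQD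
  have hPH : PH H e S (sgl i₀ j₀) ≤ H := inf_le_left
  set P := PH H e S (sgl i₀ j₀) with hPdef
  set A := PP e S (sgl i₀ j₀) with hAdef
  set B := PP e S (fun _ => ∅) with hBdef
  have hAP : A ≤ P := PP_le_PH e S hN.le _
  have hAN : A ≤ N := PP_le e S _
  have hBA : B ≤ A := (PP_le_iff e S).2 fun _ => Set.empty_subset _
  have hst : ∀ w ∈ W, w ∉ D → ∃ a ∈ A, (H ⊓ cj w H) ⊓ N = cj a B := fun w hw hwD =>
    vec_stab e hY h hN hrel hJ hVD hDP v hw hwD
  have hcjA : ∀ a ∈ A, cj a B ≤ A := by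
    intro a ha
    rw [← cj_eq_self ha]
    exact cj_mono hBA
  -- fixed vectors of chambers
  have hfix : ∀ a ∈ A, ∀ w : W, v.vec w ∈ v.fix hDn (cj a B) ↔ cj a B ≤ cj (w : G) H := by
    intro a ha w
    rw [v.vec_mem_fix hDn hPH, inf_eq_left.2 ((hcjA a ha).trans hAP)]
  have hstab : ∀ a ∈ A, ∀ w : W, (w : G) ∉ D → (v.vec w ∈ v.fix hDn (cj a B) ↔ (H ⊓ cj (w : G) H) ⊓ N = cj a B) := by
    intro a ha w hwD
    rw [hfix a ha w]
    constructor
    · intro h1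
      obtain ⟨b, hb, hbw⟩ := hst w w.2 hwD
      have h2 : cj a B ≤ cj b B := by
        rw [← hbw]
        exact le_inf (le_inf (((hcjA a ha).trans hAN).trans hN.le) h1) ((hcjA a ha).trans hAN)
      rw [hbw]
      symm
      apply Subgroup.eq_of_le_of_card_ge h2
      rw [card_cj, card_cj]
    · intro h1
      rw [← h1]
      exact inf_le_left.trans inf_le_right
  have hcong : ∀ a ∈ A, ∀ b ∈ A, a⁻¹ * b ∈ B → cj a B = cj b B := by
    intro a _ b _ h1
    have e1 : b = a * (a⁻¹ * b) := by group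
    rw [e1, cj_mul, cj_eq_self h1]
  have hinj : ∀ a ∈ A, ∀ b ∈ A, cj a B = cj b B → a⁻¹ * b ∈ B := by
    intro a ha b hb h1
    apply norm_PP e S (mul_mem (inv_mem (hAN ha)) (hAN hb))
    rw [cj_mul, ← hBdef, ← h1, cj_inv_cj]
  let V : (A ⧸ B.subgroupOf A) → Subgroup v.Vec := fun q => v.fix hDn (cj (q.out : G) B)
  have hmk : ∀ g : A, V (QuotientGroup.mk g) = v.fix hDn (cj (g : G) B) := by
    intro g
    show v.fix hDn (cj (((QuotientGroup.mk g : A ⧸ B.subgroupOf A).out : A) : G) B) = _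
    have h2 : (QuotientGroup.mk (QuotientGroup.mk g : A ⧸ B.subgroupOf A).out : A ⧸ B.subgroupOf A) =
        QuotientGroup.mk g := QuotientGroup.out_eq' _
    have h3 := QuotientGroup.eq.1 h2
    rw [hcong _ (Subtype.property _) _ g.2 h3]
  obtain ⟨a, ha, hidx⟩ := p_index (p := p) (VV_isPGroup e S _) (VV_le_VV e S (sgl i₀ j₀)) (by
    intro e1
    apply hS.ne j₀
    apply le_antisymm (S.V_le_U _)
    intro t ht
    have h1 : sg e i₀ t ∈ VV e S (sgl i₀ j₀) := by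
      rw [e1]; exact (sg_mem_pk e).2 ht
    have h2 := (sg_mem_pk e).1 h1
    rwa [sgl_same] at h2)
  have hact : ∀ g : A, (g : G) ∈ P := fun g => hAP g.2
  let ρ : A →* MulAut v.Vec := (v.act hDn).comp (Subgroup.inclusion hAP)
  have hρ : ∀ (g : A) (x : v.Vec), ρ g x = v.act hDn ⟨g, hAP g.2⟩ x := fun _ _ => rfl
  -- a vector
  obtain ⟨w₀, hw₀, hw₀D⟩ : ∃ w ∈ W, w ∉ D := by
    by_contra hcon
    push Not at hcon
    exact hWD (le_antisymm hcon v.DW)
  obtain ⟨a₀, ha₀, ha₀w⟩ := hst w₀ hw₀ hw₀D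
  have hoe : ∀ (x y : A ⧸ B.subgroupOf A), ((x.out : A) : G)⁻¹ * (y.out : A) ∈ B → x = y := by
    intro x y h4
    have h5 : (QuotientGroup.mk x.out : A ⧸ B.subgroupOf A) = QuotientGroup.mk y.out := QuotientGroup.eq.2 h4
    rwa [QuotientGroup.out_eq', QuotientGroup.out_eq'] at h5
  have hsm : ∀ (g : A) (x y : A ⧸ B.subgroupOf A), ((y.out : A) : G)⁻¹ * ((g : G) * (x.out : A)) ∈ B →
      g • x = y := by
    intro g x y h4
    have h5 : (QuotientGroup.mk y.out : A ⧸ B.subgroupOf A) = QuotientGroup.mk (g * x.out) := QuotientGroup.eq.2 h4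
    rw [QuotientGroup.out_eq'] at h5
    have h6 : g • (QuotientGroup.mk x.out : A ⧸ B.subgroupOf A) = y := h5.symm
    rwa [QuotientGroup.out_eq'] at h6
  have key := Cfsg.Agent.H470.EPO.panel (p := p) (a := a) ρ (MulAction.toPermHom A (A ⧸ B.subgroupOf A)) V
    (fun x => v.pow_eq_one x) ha (by
      have h1 := PP_index e hS i₀ j₀
      rw [hidx] at h1
      rw [add_comm, ← h1]
      rfl) ?_ ?_ ?_ ?_ ?_ ?_
  · obtain ⟨h1, h2, -, -⟩ := key
    refine ⟨h1, ?_⟩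
    rw [← VV_index e i₀ j₀, hidx, h2, pow_one]
    exact h1
  · intro g q x hx
    have e1 : (MulAction.toPermHom A (A ⧸ B.subgroupOf A)) g q = QuotientGroup.mk (g * q.out) := by
      show g • q = _
      conv_lhs => rw [← q.out_eq']
      rfl
    rw [e1, hmk, hρ]
    have h1 := (v.act_mem_fix hDn (⟨g, hAP g.2⟩ : P)).2 hx
    have h2 : cj ((⟨g, hAP g.2⟩ : P) : G) (cj (q.out : G) B) = cj ((g * q.out : A) : G) B := by
      rw [Subgroup.coe_mul, cj_mul]
    rw [h2] at h1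
    exact h1
  · intro g q x hgq hx
    rw [hρ]
    apply hx
    show (g : G) ∈ cj (q.out : G) B
    have h2 : g • q = q := hgq
    have h3 : (QuotientGroup.mk (g * q.out) : A ⧸ B.subgroupOf A) = QuotientGroup.mk q.out := by
      have h5 : g • (QuotientGroup.mk q.out : A ⧸ B.subgroupOf A) = QuotientGroup.mk q.out := by
        rw [QuotientGroup.out_eq']
        exact h2
      exact h5
    have h6 := QuotientGroup.eq.1 h3.symm
    have h4 : ((q.out : A) : G)⁻¹ * ((g * q.out : A) : G) ∈ B := h6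
    rw [mem_cj]
    rw [Subgroup.coe_mul, ← mul_assoc] at h4
    exact h4
  · intro x
    obtain ⟨w, rfl⟩ := v.vec_surjective x
    by_cases hwD : (w : G) ∈ D
    · refine ⟨QuotientGroup.mk 1, ?_⟩
      rw [(v.vec_eq_one).2 hwD]
      exact one_mem _
    · obtain ⟨b, hb, hbw⟩ := hst w w.2 hwD
      refine ⟨QuotientGroup.mk ⟨b, hb⟩, ?_⟩
      rw [hmk]
      exact (hstab b hb w hwD).2 hbw
  · intro q q' x hqq h1 h2
    obtain ⟨w, rfl⟩ := v.vec_surjective x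
    by_contra h3
    have hwD := (v.vec_coe_ne_one).1 h3
    have h4 := (hstab _ q.out.2 w hwD).1 h1
    have h5 := (hstab _ q'.out.2 w hwD).1 h2
    exact hqq (hoe _ _ (hinj _ q.out.2 _ q'.out.2 (h4.symm.trans h5)))
  · intro q
    have hx : v.vec ⟨w₀, hw₀⟩ ∈ v.fix hDn (cj a₀ B) := (hstab a₀ ha₀ ⟨w₀, hw₀⟩ hw₀D).2 ha₀w
    have hg : (q.out : G) * a₀⁻¹ ∈ P := hAP (mul_mem q.out.2 (inv_mem ha₀))
    refine ⟨v.act hDn ⟨(q.out : G) * a₀⁻¹, hg⟩ (v.vec ⟨w₀, hw₀⟩), ?_, ?_⟩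
    · have h1 := (v.act_mem_fix hDn (⟨(q.out : G) * a₀⁻¹, hg⟩ : P)).2 hx
      have h2 : cj ((⟨(q.out : G) * a₀⁻¹, hg⟩ : P) : G) (cj a₀ B) = cj (q.out : G) B := by
        rw [← cj_mul, inv_mul_cancel_right]
      rw [h2] at h1
      exact h1
    · intro h1
      rw [map_eq_one_iff _ (MulEquiv.injective _)] at h1
      exact hw₀D ((v.vec_eq_one).1 h1)
  · intro q d d' hd hd'
    have h1 : (q.out : G)⁻¹ * (d.out : G) ∉ B := fun h4 => hd (hoe _ _ h4).symm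
    have h2 : (q.out : G)⁻¹ * (d'.out : G) ∉ B := fun h4 => hd' (hoe _ _ h4).symm
    obtain ⟨u, hu, hm⟩ := PP_trans e hS (A.mul_mem (A.inv_mem q.out.2) d.out.2) h1
      (A.mul_mem (A.inv_mem q.out.2) d'.out.2) h2
    have huA : u ∈ A := VV_le_PP' e S _ _ hu
    have huB : u ∈ B := VV_le_PP e S _ hu
    refine ⟨q.out * ⟨u, huA⟩ * q.out⁻¹, hsm _ _ _ ?_, hsm _ _ _ ?_⟩
    · show ((q.out : A) : G)⁻¹ * ((q.out : A) * u * ((q.out : A) : G)⁻¹ * (q.out : A)) ∈ B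
      have e1 : ((q.out : A) : G)⁻¹ * ((q.out : A) * u * ((q.out : A) : G)⁻¹ * (q.out : A)) = u := by group
      rw [e1]
      exact huB
    · show ((d'.out : A) : G)⁻¹ * ((q.out : A) * u * ((q.out : A) : G)⁻¹ * (d.out : A)) ∈ B
      have e1 : ((d'.out : A) : G)⁻¹ * ((q.out : A) * u * ((q.out : A) : G)⁻¹ * (d.out : A)) =
          (((q.out : A) : G)⁻¹ * (d'.out : A))⁻¹ * u * (((q.out : A) : G)⁻¹ * (d.out : A)) := by group
      rw [e1]
      exact hm

/-- **own characteristic, rank at least two** (any relative rank): `p = 2` and `|U : V_j| = 2` for a node `j` -/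
theorem own_R [Nontrivial I] (hS : Rk S) (h : EP H) (hN : MinN N H) (hk : 0 < k) (hR : SylIn H R p)
    (hRN : R ⊓ N = VV e S fun _ => ∅) (hDQ : ∀ J : Fin k → Set I, VV e S J ≠ ⊥ → DQ H e S J) :
    p = 2 ∧ ∃ j : I, (S.V {j}).relIndex (S.V ∅) = 2 := by
  by_cases hrel : ∀ L : Fin k → Set I, Inv H e S L → (∀ i, L i ≠ Set.univ) → L = fun _ => ∅
  · obtain ⟨j₀⟩ : Nonempty I := inferInstance
    have hJ : ∀ i, sgl (⟨0, hk⟩ : Fin k) j₀ i ≠ Set.univ := by
      intro i h1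
      by_cases hi : i = ⟨0, hk⟩
      · subst hi
        rw [sgl_same] at h1
        obtain ⟨j₁, hj₁⟩ := exists_ne j₀
        have h2 : j₁ ∈ ({j₀} : Set I) := by rw [h1]; trivial
        exact hj₁ h2
      · rw [sgl_ne hi] at h1
        exact Set.empty_ne_univ h1
    obtain ⟨h1, h2⟩ := rel_one e hY hS h hN hrel hJ (hDQ _ (VV_ne_bot e (hJ ⟨0, hk⟩)))
    exact ⟨h1, j₀, h2⟩
  · push Not at hrel
    obtain ⟨L, hL, hL1, hL0⟩ := hrel
    obtain ⟨i₀, h0⟩ : ∃ i, L i ≠ ∅ := by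
      by_contra hcon
      push Not at hcon
      exact hL0 (funext hcon)
    obtain ⟨hp, -, ⟨M, hM, hRM⟩, hall⟩ := own_B e hY hS h hN hR hRN hDQ hL h0 (hL1 i₀)
    obtain ⟨j, hj, -⟩ := hall M hM hRM
    exact ⟨hp, j, hj⟩

end

end Cfsg.Agent.H737.EPO
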