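import Cfsg.Agent.H737.EPO.PSys

/-!
# S5745 / S3499, OWN characteristic: the `H`-side (helper737)

`N ≅ Y^k` minimal normal in `H`, `Y` with a parabolic system.
-/

set_option autoImplicit false
set_option linter.unusedSectionVars false

namespace Cfsg.Agent.H737.EPO

open Cfsg.Agent.H284 Cfsg.Agent.H209.EPX
open scoped Pointwise

/-! ### Automorphisms of `Y^k` -/

theorem perm {Y : Type*} [Group Y] [IsSimpleGroup Y] (hY : ∃ a b : Y, a * b ≠ b * a) {k : ℕ}
    (α : (Fin k → Y) ≃* (Fin k → Y)) (i : Fin k) :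
    (∀ t, α (Pi.mulSingle i t) i = 1) ∨ ∃ φ : MulAut Y, ∀ t, α (Pi.mulSingle i t) = Pi.mulSingle i (φ t) := by
  classical
  by_cases h0 : ∀ t, α (Pi.mulSingle i t) i = 1
  · exact Or.inl h0
  right
  push Not at h0
  obtain ⟨t, ht⟩ := h0
  have hcen : Subgroup.center Y = ⊥ := by
    rcases Subgroup.Normal.eq_bot_or_eq_top (inferInstance : (Subgroup.center Y).Normal) with h1 | h1
    · exact h1
    · exfalso
      obtain ⟨a, b, hab⟩ := hY
      have h2 : a ∈ Subgroup.center Y := by rw [h1]; trivial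
      exact hab ((Subgroup.mem_center_iff.1 h2 b).symm)
  -- for every automorphism `β` of `Y^k`: if the `i`-component of `β(Y_i)` is not trivial then `Y_i ≤ β(Y_i)`
  have key : ∀ (β : (Fin k → Y) ≃* (Fin k → Y)), (∃ t, β (Pi.mulSingle i t) i ≠ 1) →
      ∀ s : Y, ∃ t : Y, β (Pi.mulSingle i t) = Pi.mulSingle i s := by
    intro β hβ
    obtain ⟨t, ht⟩ := hβ
    let L : Subgroup Y :=
      { carrier := {s | ∃ t : Y, β (Pi.mulSingle i t) = Pi.mulSingle i s}
        one_mem' := ⟨1, by simp⟩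
        mul_mem' := by
          rintro a b ⟨s, hs⟩ ⟨s', hs'⟩
          exact ⟨s * s', by rw [Pi.mulSingle_mul, map_mul, hs, hs', Pi.mulSingle_mul]⟩
        inv_mem' := by
          rintro a ⟨s, hs⟩
          exact ⟨s⁻¹, by rw [Pi.mulSingle_inv, map_inv, hs, Pi.mulSingle_inv]⟩ }
    have hconj : ∀ (a : Fin k → Y) (t : Y), ∃ t' : Y, a * β (Pi.mulSingle i t) * a⁻¹ = β (Pi.mulSingle i t') := by
      intro a t
      obtain ⟨b, rfl⟩ := β.surjective a
      refine ⟨b i * t * (b i)⁻¹, ?_⟩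
      rw [← map_inv, ← map_mul, ← map_mul]
      congr 1
      funext j
      by_cases hj : j = i
      · subst hj
        simp
      · simp [Pi.mulSingle_eq_of_ne hj]
    have hLn : L.Normal := by
      refine ⟨fun s hs g => ?_⟩
      obtain ⟨t, ht⟩ := hs
      obtain ⟨t', ht'⟩ := hconj (Pi.mulSingle i g) t
      refine ⟨t', ?_⟩
      rw [← ht', ht, ← Pi.mulSingle_inv, ← Pi.mulSingle_mul, ← Pi.mulSingle_mul]
    have hL : L ≠ ⊥ := by
      intro hL
      apply ht
      rw [← Subgroup.mem_bot, ← hcen, Subgroup.mem_center_iff]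
      intro g
      have h1 : β (Pi.mulSingle i t) i * g * (β (Pi.mulSingle i t) i)⁻¹ * g⁻¹ ∈ L := by
        obtain ⟨t', ht'⟩ := hconj (Pi.mulSingle i g) t⁻¹
        refine ⟨t * t', ?_⟩
        rw [Pi.mulSingle_mul, map_mul, ← ht', Pi.mulSingle_inv, map_inv]
        funext j
        by_cases hj : j = i
        · subst hj
          simp [mul_assoc]
        · simp [Pi.mulSingle_eq_of_ne hj]
      rw [hL, Subgroup.mem_bot] at h1
      have h2 : β (Pi.mulSingle i t) i * g = g * β (Pi.mulSingle i t) i := by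
        have h3 := mul_inv_eq_one.1 h1
        have h4 := mul_inv_eq_iff_eq_mul.1 h3
        exact h4
      exact h2.symm
    have hLtop : L = ⊤ := (Subgroup.Normal.eq_bot_or_eq_top hLn).resolve_left hL
    intro s
    have : s ∈ L := by rw [hLtop]; trivial
    exact this
  have h1 := key α ⟨t, ht⟩
  -- the inverse
  have h2 : ∀ s : Y, ∃ t : Y, α.symm (Pi.mulSingle i t) = Pi.mulSingle i s := by
    apply key α.symm
    obtain ⟨a, b, hab⟩ := hY
    have ha : ∃ a : Y, a ≠ 1 := ⟨a, fun e => hab (by rw [e]; simp)⟩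
    obtain ⟨a, ha⟩ := ha
    obtain ⟨t, ht⟩ := h1 a
    refine ⟨a, ?_⟩
    rw [← ht, α.symm_apply_apply, Pi.mulSingle_eq_same]
    rintro rfl
    rw [Pi.mulSingle_one, map_one] at ht
    have := congrFun ht i
    rw [Pi.mulSingle_eq_same] at this
    exact ha this.symm
  have h3 : ∀ t : Y, ∃ s : Y, α (Pi.mulSingle i t) = Pi.mulSingle i s := by
    intro t
    obtain ⟨s, hs⟩ := h2 t
    exact ⟨s, by rw [← hs, α.apply_symm_apply]⟩
  have h4 : ∀ t : Y, α (Pi.mulSingle i t) = Pi.mulSingle i (α (Pi.mulSingle i t) i) := by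
    intro t
    obtain ⟨s, hs⟩ := h3 t
    rw [hs, Pi.mulSingle_eq_same]
  have h5 : ∀ t : Y, α.symm (Pi.mulSingle i t) = Pi.mulSingle i (α.symm (Pi.mulSingle i t) i) := by
    intro t
    obtain ⟨s, hs⟩ := h1 t
    rw [← hs, α.symm_apply_apply, Pi.mulSingle_eq_same]
  refine ⟨{ toFun := fun t => α (Pi.mulSingle i t) i
            invFun := fun t => α.symm (Pi.mulSingle i t) i
            left_inv := fun t => ?_
            right_inv := fun t => ?_
            map_mul' := fun a b => ?_ }, h4⟩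
  · show α.symm (Pi.mulSingle i (α (Pi.mulSingle i t) i)) i = t
    rw [← h4, α.symm_apply_apply, Pi.mulSingle_eq_same]
  · show α (Pi.mulSingle i (α.symm (Pi.mulSingle i t) i)) i = t
    rw [← h5, α.apply_symm_apply, Pi.mulSingle_eq_same]
  · show α (Pi.mulSingle i (a * b)) i = _
    rw [Pi.mulSingle_mul, map_mul, Pi.mul_apply]

/-! ### Product subgroups of `N ≅ Y^k` -/

section Prod

variable {G Y : Type*} [Group G] [Group Y] {N : Subgroup G} {k : ℕ} (e : N ≃* (Fin k → Y))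

/-- the embedding of the `i`-th factor -/
def sg (i : Fin k) : Y →* G := N.subtype.comp (e.symm.toMonoidHom.comp (MonoidHom.mulSingle (fun _ => Y) i))

/-- the product of the `F i` -/
def pk (F : Fin k → Subgroup Y) : Subgroup G := ((Subgroup.pi Set.univ F).comap e.toMonoidHom).map N.subtype

/-- the components of an element of `N` -/
noncomputable def cp (x : G) (i : Fin k) : Y := by
  classical exact if hx : x ∈ N then e ⟨x, hx⟩ i else 1

theorem cp_eq {x : G} (hx : x ∈ N) (i : Fin k) : cp e x i = e ⟨x, hx⟩ i := by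
  unfold cp
  rw [dif_pos hx]

theorem sg_apply (i : Fin k) (t : Y) : sg e i t = (e.symm (Pi.mulSingle i t) : G) := rfl

theorem sg_mem (i : Fin k) (t : Y) : sg e i t ∈ N := (e.symm (Pi.mulSingle i t)).2

theorem cp_sg (i : Fin k) (t : Y) : cp e (sg e i t) i = t := by
  rw [cp_eq e (sg_mem e i t)]
  have : (⟨sg e i t, sg_mem e i t⟩ : N) = e.symm (Pi.mulSingle i t) := rfl
  rw [this, e.apply_symm_apply, Pi.mulSingle_eq_same]

theorem cp_sg_ne {i j : Fin k} (hij : j ≠ i) (t : Y) : cp e (sg e i t) j = 1 := by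
  rw [cp_eq e (sg_mem e i t)]
  have : (⟨sg e i t, sg_mem e i t⟩ : N) = e.symm (Pi.mulSingle i t) := rfl
  rw [this, e.apply_symm_apply, Pi.mulSingle_eq_of_ne hij]

theorem cp_mul {x y : G} (hx : x ∈ N) (hy : y ∈ N) (i : Fin k) : cp e (x * y) i = cp e x i * cp e y i := by
  rw [cp_eq e hx, cp_eq e hy, cp_eq e (mul_mem hx hy), ← Pi.mul_apply, ← map_mul]
  rfl

theorem cp_one (i : Fin k) : cp e (1 : G) i = 1 := by
  rw [cp_eq e (one_mem _)]
  have : (⟨1, one_mem _⟩ : N) = 1 := rfl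
  rw [this, map_one, Pi.one_apply]

theorem cp_inv {x : G} (hx : x ∈ N) (i : Fin k) : cp e x⁻¹ i = (cp e x i)⁻¹ := by
  rw [cp_eq e hx, cp_eq e (inv_mem hx), ← Pi.inv_apply, ← map_inv]
  rfl

theorem ext_cp {x y : G} (hx : x ∈ N) (hy : y ∈ N) (h : ∀ i, cp e x i = cp e y i) : x = y := by
  have : (⟨x, hx⟩ : N) = ⟨y, hy⟩ := e.injective (by
    funext i
    rw [← cp_eq e hx, ← cp_eq e hy, h])
  exact Subtype.ext_iff.1 this

theorem mem_pk {F : Fin k → Subgroup Y} {x : G} : x ∈ pk e F ↔ x ∈ N ∧ ∀ i, cp e x i ∈ F i := by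
  constructor
  · rintro ⟨y, hy, rfl⟩
    refine ⟨y.2, fun i => ?_⟩
    have h1 : (e y) ∈ Subgroup.pi Set.univ F := hy
    have h2 := h1 i (Set.mem_univ i)
    rw [show (N.subtype y : G) = (y : G) from rfl, cp_eq e y.2]
    exact h2
  · rintro ⟨hx, h1⟩
    refine ⟨⟨x, hx⟩, ?_, rfl⟩
    intro i _
    have h2 := h1 i
    rw [cp_eq e hx i] at h2
    exact h2

theorem pk_le (F : Fin k → Subgroup Y) : pk e F ≤ N := fun _ hx => ((mem_pk e).1 hx).1

theorem sg_mem_pk {F : Fin k → Subgroup Y} {i : Fin k} {t : Y} : sg e i t ∈ pk e F ↔ t ∈ F i := by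
  rw [mem_pk]
  constructor
  · rintro ⟨-, h1⟩
    have := h1 i
    rwa [cp_sg] at this
  · intro ht
    refine ⟨sg_mem e i t, fun j => ?_⟩
    by_cases hj : j = i
    · subst hj; rwa [cp_sg]
    · rw [cp_sg_ne e hj]; exact one_mem _

theorem pk_le_iff {F F' : Fin k → Subgroup Y} : pk e F ≤ pk e F' ↔ ∀ i, F i ≤ F' i := by
  constructor
  · intro h1 i t ht
    exact (sg_mem_pk e).1 (h1 ((sg_mem_pk e).2 ht))
  · intro h1 x hx
    rw [mem_pk] at hx ⊢
    exact ⟨hx.1, fun i => h1 i (hx.2 i)⟩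

theorem pk_top : pk e (fun _ => ⊤) = N := by
  ext x
  rw [mem_pk]
  exact ⟨fun h => h.1, fun h => ⟨h, fun _ => trivial⟩⟩

/-- a product is generated by its factors -/
theorem pk_le_of_sg {F : Fin k → Subgroup Y} {L : Subgroup G} (h : ∀ i, ∀ t ∈ F i, sg e i t ∈ L) : pk e F ≤ L := by
  classical
  unfold pk
  rw [Subgroup.map_le_iff_le_comap]
  have h1 : Subgroup.pi Set.univ F ≤ (L.comap N.subtype).comap e.symm.toMonoidHom := by
    rw [Subgroup.pi_le_iff]
    intro i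
    rw [Subgroup.map_le_iff_le_comap]
    intro t ht
    exact h i t ht
  intro x hx
  have h2 := h1 hx
  have h3 : e.symm (e x) ∈ L.comap N.subtype := h2
  rwa [e.symm_apply_apply] at h3

theorem sup_le_N {L : Subgroup G} (h : ∀ i t, sg e i t ∈ L) : N ≤ L := by
  rw [← pk_top e]
  exact pk_le_of_sg e fun i t _ => h i t

/-- the preimage in the `i`-th factor -/
def fac (L : Subgroup G) (i : Fin k) : Subgroup Y := L.comap (sg e i)

theorem mem_fac {L : Subgroup G} {i : Fin k} {t : Y} : t ∈ fac e L i ↔ sg e i t ∈ L := Iff.rfl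

theorem pk_fac_le (L : Subgroup G) : pk e (fac e L) ≤ L := pk_le_of_sg e fun _ _ ht => ht

theorem pk_eq {L : Subgroup G} (hL : L ≤ N) (h : ∀ x ∈ L, ∀ i, cp e x i ∈ fac e L i) : L = pk e (fac e L) :=
  le_antisymm (fun x hx => (mem_pk e).2 ⟨hL hx, h x hx⟩) (pk_fac_le e L)

theorem conj_sg {x : G} (hx : x ∈ N) (i : Fin k) (t : Y) : x * sg e i t * x⁻¹ = sg e i (cp e x i * t * (cp e x i)⁻¹) := by
  apply ext_cp e (mul_mem (mul_mem hx (sg_mem e i t)) (inv_mem hx)) (sg_mem e i _)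
  intro j
  rw [cp_mul e (mul_mem hx (sg_mem e i t)) (inv_mem hx), cp_mul e hx (sg_mem e i t), cp_inv e hx]
  by_cases hj : j = i
  · subst hj
    rw [cp_sg, cp_sg]
  · rw [cp_sg_ne e hj, cp_sg_ne e hj]
    group

theorem cj_pk {x : G} (hx : x ∈ N) (F : Fin k → Subgroup Y) : cj x (pk e F) = pk e (fun i => cj (cp e x i) (F i)) := by
  ext y
  rw [mem_cj, mem_pk, mem_pk]
  constructor
  · rintro ⟨h1, h2⟩
    have hy : y ∈ N := by
      have : y = x * (x⁻¹ * y * x) * x⁻¹ := by group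
      rw [this]
      exact mul_mem (mul_mem hx h1) (inv_mem hx)
    refine ⟨hy, fun i => ?_⟩
    rw [mem_cj]
    have := h2 i
    rwa [cp_mul e (mul_mem (inv_mem hx) hy) hx, cp_mul e (inv_mem hx) hy, cp_inv e hx] at this
  · rintro ⟨hy, h2⟩
    refine ⟨mul_mem (mul_mem (inv_mem hx) hy) hx, fun i => ?_⟩
    have := h2 i
    rw [mem_cj] at this
    rwa [cp_mul e (mul_mem (inv_mem hx) hy) hx, cp_mul e (inv_mem hx) hy, cp_inv e hx]

/-- an element of `N` with given components -/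
theorem exists_cp (g : Fin k → Y) : ∃ x ∈ N, ∀ i, cp e x i = g i := by
  refine ⟨e.symm g, (e.symm g).2, fun i => ?_⟩
  rw [cp_eq e (e.symm g).2]
  have : (⟨(e.symm g : G), (e.symm g).2⟩ : N) = e.symm g := rfl
  rw [this, e.apply_symm_apply]

/-- the action of an element normalising `N` on the factors -/
theorem perm_sg [IsSimpleGroup Y] (hY : ∃ a b : Y, a * b ≠ b * a) {x : G} (hx : ∀ n : G, n ∈ N ↔ x * n * x⁻¹ ∈ N)
    (i : Fin k) : (∀ t, cp e (x * sg e i t * x⁻¹) i = 1) ∨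
      ∃ φ : MulAut Y, ∀ t, x * sg e i t * x⁻¹ = sg e i (φ t) := by
  let c : N ≃* N :=
    { toFun := fun n => ⟨x * n * x⁻¹, (hx n).1 n.2⟩
      invFun := fun n => ⟨x⁻¹ * n * x, (hx _).2 (by
        have : x * (x⁻¹ * (n : G) * x) * x⁻¹ = n := by group
        rw [this]; exact n.2)⟩
      left_inv := fun n => Subtype.ext (by show x⁻¹ * (x * n * x⁻¹) * x = n; group)
      right_inv := fun n => Subtype.ext (by show x * (x⁻¹ * n * x) * x⁻¹ = n; group)
      map_mul' := fun a b => Subtype.ext (by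
        show x * (a * b) * x⁻¹ = (x * a * x⁻¹) * (x * b * x⁻¹)
        group) }
  have hc : ∀ n : N, (c n : G) = x * n * x⁻¹ := fun n => rfl
  rcases perm hY (e.symm.trans (c.trans e)) i with h1 | ⟨φ, h1⟩
  · left
    intro t
    have h2 := h1 t
    have h3 : x * sg e i t * x⁻¹ ∈ N := (hx _).1 (sg_mem e i t)
    rw [cp_eq e h3]
    exact h2
  · right
    refine ⟨φ, fun t => ?_⟩
    have h2 : e (c (e.symm (Pi.mulSingle i t))) = Pi.mulSingle i (φ t) := h1 t
    have h3 : c (e.symm (Pi.mulSingle i t)) = e.symm (Pi.mulSingle i (φ t)) := by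
      rw [← h2, e.symm_apply_apply]
    have h4 := congrArg (fun n : N => (n : G)) h3
    exact h4

end Prod

/-! ### Standard parabolic subgroups of `N` -/

theorem cj_eq_of_nm {G : Type*} [Group G] [Finite G] {K : Subgroup G} {x : G} (h : ∀ a ∈ K, x * a * x⁻¹ ∈ K) :
    cj x K = K := by
  apply Subgroup.eq_of_le_of_card_ge
  · rintro _ ⟨k, hk, rfl⟩
    exact h k hk
  · rw [card_cj]

theorem nm_of_cj_eq {G : Type*} [Group G] {K : Subgroup G} {x : G} (h : cj x K = K) {a : G} (ha : a ∈ K) :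
    x * a * x⁻¹ ∈ K := by
  rw [← h]
  exact conj_mem_cj ha

theorem cj_sup {G : Type*} [Group G] (x : G) (K L : Subgroup G) : cj x (K ⊔ L) = cj x K ⊔ cj x L :=
  Subgroup.map_sup _ _ _

section Par

variable {G Y : Type*} [Group G] [Group Y] {H N : Subgroup G} {k : ℕ} (e : N ≃* (Fin k → Y))
  {p : ℕ} {I : Type*} (S : PSys Y p I)

/-- standard parabolic subgroups of `N` -/
def PP (J : Fin k → Set I) : Subgroup G := pk e fun i => S.P (J i)

/-- their unipotent radicals -/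
def VV (J : Fin k → Set I) : Subgroup G := pk e fun i => S.V (J i)

theorem PP_le (J : Fin k → Set I) : PP e S J ≤ N := pk_le e _

theorem VV_le (J : Fin k → Set I) : VV e S J ≤ N := pk_le e _

theorem PP_le_iff {J L : Fin k → Set I} : PP e S J ≤ PP e S L ↔ ∀ i, J i ⊆ L i := by
  rw [PP, PP, pk_le_iff]
  exact forall_congr' fun i => S.P_le_iff

theorem PP_inj {J L : Fin k → Set I} (h : PP e S J = PP e S L) : J = L := by
  funext i
  exact Set.Subset.antisymm ((PP_le_iff e S).1 h.le i) ((PP_le_iff e S).1 h.ge i)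

theorem PP_univ : PP e S (fun _ => Set.univ) = N := by
  have := pk_top e
  unfold PP
  simp only [S.P_univ]
  exact this

theorem univ_of_PP {J : Fin k → Set I} (h : PP e S J = N) (i : Fin k) : J i = Set.univ :=
  congrFun (PP_inj e S (h.trans (PP_univ e S).symm)) i

theorem VV_le_PP (J : Fin k → Set I) : VV e S J ≤ PP e S J := (pk_le_iff e).2 fun i => S.V_le (J i)

theorem VV_anti {J L : Fin k → Set I} (h : ∀ i, J i ⊆ L i) : VV e S L ≤ VV e S J :=
  (pk_le_iff e).2 fun i => S.V_anti (h i)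

theorem VV_le_VV (J : Fin k → Set I) : VV e S J ≤ VV e S fun _ => ∅ := VV_anti e S fun _ => Set.empty_subset _

theorem VV_le_PP' (J L : Fin k → Set I) : VV e S J ≤ PP e S L :=
  (VV_le_VV e S J).trans ((VV_le_PP e S _).trans ((PP_le_iff e S).2 fun _ => Set.empty_subset _))

/-- the overgroups of the standard Borel subgroup -/
theorem PP_over {L : Subgroup G} (hL : PP e S (fun _ => ∅) ≤ L) (hLN : L ≤ N) : ∃ J, L = PP e S J := by
  have h1 : ∀ i, S.P ∅ ≤ fac e L i := fun i t ht => hL ((sg_mem_pk e).2 ht)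
  choose J hJ using fun i => S.ov _ (h1 i)
  refine ⟨J, ?_⟩
  have h2 : L = pk e (fac e L) := by
    refine pk_eq e hLN fun x hx i => ?_
    have h3 : cj (cp e x i) (S.P (J i)) ≤ S.P (J i) := by
      rw [← hJ i]
      rintro _ ⟨t, ht, rfl⟩
      show sg e i (cp e x i * t * (cp e x i)⁻¹) ∈ L
      rw [← conj_sg e (hLN hx)]
      exact mul_mem (mul_mem hx ht) (inv_mem hx)
    have h3' : cj (cp e x i)⁻¹ (S.P (J i)) ≤ S.P (J i) := by
      rw [← hJ i]
      rintro _ ⟨t, ht, rfl⟩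
      show sg e i ((cp e x i)⁻¹ * t * (cp e x i)⁻¹⁻¹) ∈ L
      rw [← cp_inv e (hLN hx), ← conj_sg e (inv_mem (hLN hx))]
      exact mul_mem (mul_mem (inv_mem hx) ht) (inv_mem (inv_mem hx))
    rw [hJ i]
    apply S.norm_P
    apply le_antisymm h3
    have h4 := cj_mono (x := cp e x i) h3'
    rwa [cj_cj_inv] at h4
  rw [h2]
  unfold PP
  congr 1
  funext i
  exact hJ i

theorem PP_sup (J L : Fin k → Set I) : PP e S J ⊔ PP e S L = PP e S fun i => J i ∪ L i := by
  obtain ⟨K, hK⟩ := PP_over e S (L := PP e S J ⊔ PP e S L)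
    (((PP_le_iff e S).2 fun _ => Set.empty_subset _).trans le_sup_left) (sup_le (PP_le e S J) (PP_le e S L))
  have h1 : ∀ i, J i ⊆ K i := (PP_le_iff e S).1 (by rw [← hK]; exact le_sup_left)
  have h2 : ∀ i, L i ⊆ K i := (PP_le_iff e S).1 (by rw [← hK]; exact le_sup_right)
  apply le_antisymm
  · exact sup_le ((PP_le_iff e S).2 fun i => Set.subset_union_left)
      ((PP_le_iff e S).2 fun i => Set.subset_union_right)
  · rw [hK]
    exact (PP_le_iff e S).2 fun i => Set.union_subset (h1 i) (h2 i)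

theorem PP_inf (J L : Fin k → Set I) : PP e S J ⊓ PP e S L = PP e S fun i => J i ∩ L i := by
  obtain ⟨K, hK⟩ := PP_over e S (L := PP e S J ⊓ PP e S L)
    (le_inf ((PP_le_iff e S).2 fun _ => Set.empty_subset _) ((PP_le_iff e S).2 fun _ => Set.empty_subset _))
    (inf_le_left.trans (PP_le e S J))
  have h1 : ∀ i, K i ⊆ J i := (PP_le_iff e S).1 (by rw [← hK]; exact inf_le_left)
  have h2 : ∀ i, K i ⊆ L i := (PP_le_iff e S).1 (by rw [← hK]; exact inf_le_right)
  apply le_antisymm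
  · rw [hK]
    exact (PP_le_iff e S).2 fun i => Set.subset_inter (h1 i) (h2 i)
  · exact le_inf ((PP_le_iff e S).2 fun i => Set.inter_subset_left)
      ((PP_le_iff e S).2 fun i => Set.inter_subset_right)

/-- **`V_K ≤ n P_L n⁻¹` gives `n ∈ P_K P_L`** -/
theorem PP_dec {K L : Fin k → Set I} {n : G} (hn : n ∈ N) (h : VV e S K ≤ cj n (PP e S L)) :
    ∃ a ∈ PP e S K, ∃ b ∈ PP e S L, n = a * b := by
  unfold PP VV at h
  rw [cj_pk e hn, pk_le_iff] at h
  choose a ha b hb hab using fun i => S.dec (h i)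
  obtain ⟨x, hx, hxa⟩ := exists_cp e a
  obtain ⟨y, hy, hyb⟩ := exists_cp e b
  refine ⟨x, (mem_pk e).2 ⟨hx, fun i => by rw [hxa]; exact ha i⟩, y, (mem_pk e).2 ⟨hy, fun i => by rw [hyb]; exact hb i⟩, ?_⟩
  apply ext_cp e hn (mul_mem hx hy)
  intro i
  rw [cp_mul e hx hy, hxa, hyb]
  exact hab i

theorem mem_of_UU_le {L : Fin k → Set I} {n : G} (hn : n ∈ N) (h : VV e S (fun _ => ∅) ≤ cj n (PP e S L)) :
    n ∈ PP e S L := by
  obtain ⟨a, ha, b, hb, rfl⟩ := PP_dec e S hn h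
  exact mul_mem ((PP_le_iff e S).2 (fun _ => Set.empty_subset _) ha) hb

/-- parabolic subgroups of `N` are self-normalising -/
theorem norm_PP {L : Fin k → Set I} {n : G} (hn : n ∈ N) (h : cj n (PP e S L) = PP e S L) : n ∈ PP e S L :=
  mem_of_UU_le e S hn (by rw [h]; exact VV_le_PP' e S _ _)

theorem norm_UU {n : G} (hn : n ∈ N) (h : cj n (VV e S fun _ => ∅) = VV e S fun _ => ∅) : n ∈ PP e S fun _ => ∅ := by
  apply mem_of_UU_le e S hn
  rw [← cj_cj_inv n (VV e S fun _ => ∅)]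
  apply cj_mono
  have h1 := congrArg (cj n⁻¹) h
  rw [cj_inv_cj] at h1
  rw [← h1]
  exact VV_le_PP e S _

theorem PP_nm {J : Fin k → Set I} {x : G} (hx : x ∈ PP e S J) {v : G} (hv : v ∈ VV e S J) : x * v * x⁻¹ ∈ VV e S J := by
  have hx' := (mem_pk e).1 hx
  have hv' := (mem_pk e).1 hv
  refine (mem_pk e).2 ⟨mul_mem (mul_mem hx'.1 hv'.1) (inv_mem hx'.1), fun i => ?_⟩
  rw [cp_mul e (mul_mem hx'.1 hv'.1) (inv_mem hx'.1), cp_mul e hx'.1 hv'.1, cp_inv e hx'.1]
  exact (Subgroup.mem_normalizer_iff.1 (S.V_norm (J i) (hx'.2 i)) _).1 (hv'.2 i)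

theorem pk_isPGroup {F : Fin k → Subgroup Y} (hF : ∀ i, IsPGroup p (F i)) : IsPGroup p (pk e F) := by
  classical
  intro ⟨x, hx⟩
  have hx' := (mem_pk e).1 hx
  choose m hm using fun i => hF i ⟨cp e x i, hx'.2 i⟩
  have hm' : ∀ i, (cp e x i) ^ p ^ (m i) = 1 := fun i => by
    have := hm i
    rw [Subtype.ext_iff] at this
    exact this
  refine ⟨∑ i, m i, ?_⟩
  apply Subtype.ext
  show x ^ p ^ (∑ i, m i) = 1
  have hpow : ∀ (l : ℕ), ∀ i, cp e (x ^ l) i = (cp e x i) ^ l := by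
    intro l
    induction l with
    | zero => intro i; rw [pow_zero, pow_zero, cp_one]
    | succ l ih =>
      intro i
      rw [pow_succ, cp_mul e (N.pow_mem hx'.1 l) hx'.1, ih, pow_succ]
  apply ext_cp e (N.pow_mem hx'.1 _) (one_mem _)
  intro i
  rw [hpow, cp_one]
  have h1 : p ^ m i ∣ p ^ ∑ i, m i := pow_dvd_pow _ (Finset.single_le_sum (fun _ _ => Nat.zero_le _) (Finset.mem_univ i))
  obtain ⟨c, hc⟩ := h1
  rw [hc, pow_mul, hm', one_pow]

/-- the largest normal `p`-subgroup of `P_J` -/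
theorem VV_max {J : Fin k → Set I} {D : Subgroup G} (hD : D ≤ PP e S J) (hp : IsPGroup p D)
    (hn : ∀ g ∈ PP e S J, ∀ d ∈ D, g * d * g⁻¹ ∈ D) : D ≤ VV e S J := by
  intro d hd
  refine (mem_pk e).2 ⟨PP_le e S J (hD hd), fun i => ?_⟩
  let F : Subgroup Y :=
    { carrier := {t | ∃ d ∈ D, cp e d i = t}
      one_mem' := ⟨1, one_mem _, cp_one e i⟩
      mul_mem' := by
        rintro a b ⟨x, hx, rfl⟩ ⟨y, hy, rfl⟩
        exact ⟨x * y, mul_mem hx hy, cp_mul e (PP_le e S J (hD hx)) (PP_le e S J (hD hy)) i⟩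
      inv_mem' := by
        rintro a ⟨x, hx, rfl⟩
        exact ⟨x⁻¹, inv_mem hx, cp_inv e (PP_le e S J (hD hx)) i⟩ }
  have h1 : F ≤ S.V (J i) := by
    apply S.V_max
    · rintro _ ⟨x, hx, rfl⟩
      exact ((mem_pk e).1 (hD hx)).2 i
    · rintro ⟨_, x, hx, rfl⟩
      obtain ⟨m, hm⟩ := hp ⟨x, hx⟩
      refine ⟨m, ?_⟩
      apply Subtype.ext
      have hm' : x ^ p ^ m = 1 := Subtype.ext_iff.1 hm
      show (cp e x i) ^ p ^ m = 1
      have hpow : ∀ (l : ℕ), cp e (x ^ l) i = (cp e x i) ^ l := by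
        intro l
        induction l with
        | zero => rw [pow_zero, pow_zero, cp_one]
        | succ l ih =>
          rw [pow_succ, cp_mul e (N.pow_mem (PP_le e S J (hD hx)) l) (PP_le e S J (hD hx)), ih, pow_succ]
      rw [← hpow, hm', cp_one]
    · rintro g hg _ ⟨x, hx, rfl⟩
      have hg' : sg e i g ∈ PP e S J := (sg_mem_pk e).2 hg
      refine ⟨_, hn _ hg' x hx, ?_⟩
      have hxN := PP_le e S J (hD hx)
      rw [cp_mul e (mul_mem (sg_mem e i g) hxN) (inv_mem (sg_mem e i g)), cp_mul e (sg_mem e i g) hxN,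
        cp_inv e (sg_mem e i g), cp_sg]
  exact h1 ⟨d, hd, rfl⟩

theorem VV_isPGroup (J : Fin k → Set I) : IsPGroup p (VV e S J) := pk_isPGroup e fun i => S.V_p (J i)

theorem UU_max {P : Subgroup G} (hPN : P ≤ N) (hP : IsPGroup p P) (hU : VV e S (fun _ => ∅) ≤ P) :
    P = VV e S fun _ => ∅ := by
  refine le_antisymm (fun x hx => ?_) hU
  refine (mem_pk e).2 ⟨hPN hx, fun i => ?_⟩
  let F : Subgroup Y :=
    { carrier := {t | ∃ d ∈ P, cp e d i = t}
      one_mem' := ⟨1, one_mem _, cp_one e i⟩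
      mul_mem' := by
        rintro a b ⟨x, hx, rfl⟩ ⟨y, hy, rfl⟩
        exact ⟨x * y, mul_mem hx hy, cp_mul e (hPN hx) (hPN hy) i⟩
      inv_mem' := by
        rintro a ⟨x, hx, rfl⟩
        exact ⟨x⁻¹, inv_mem hx, cp_inv e (hPN hx) i⟩ }
  have h1 : F = S.V ∅ := by
    apply S.U_max
    · intro t ht
      exact ⟨sg e i t, hU ((sg_mem_pk e).2 ht), cp_sg e i t⟩
    · rintro ⟨_, x, hx, rfl⟩
      obtain ⟨m, hm⟩ := hP ⟨x, hx⟩
      refine ⟨m, ?_⟩
      apply Subtype.ext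
      have hm' : x ^ p ^ m = 1 := Subtype.ext_iff.1 hm
      show (cp e x i) ^ p ^ m = 1
      have hpow : ∀ (l : ℕ), cp e (x ^ l) i = (cp e x i) ^ l := by
        intro l
        induction l with
        | zero => rw [pow_zero, pow_zero, cp_one]
        | succ l ih => rw [pow_succ, cp_mul e (N.pow_mem (hPN hx) l) (hPN hx), ih, pow_succ]
      rw [← hpow, hm', cp_one]
  rw [← h1]
  exact ⟨x, hx, rfl⟩

/-- `U` is a Sylow `p`-subgroup of `N` -/
theorem syl [Finite G] [Fact p.Prime] {K : Subgroup G} (hK : K ≤ N) (hKp : IsPGroup p K) :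
    ∃ n ∈ N, K ≤ cj n (VV e S fun _ => ∅) := by
  set U := VV e S fun _ => ∅ with hU
  have hUN : U ≤ N := VV_le e S _
  let Us : Sylow p N :=
    { U.subgroupOf N with
      isPGroup' := (VV_isPGroup e S _).comap_subtype
      is_maximal' := by
        intro Q hQ hle
        have h1 : Q.map N.subtype = U := by
          apply UU_max e S
          · rintro _ ⟨y, _, rfl⟩; exact y.2
          · exact hQ.map _
          · intro x hx
            exact ⟨⟨x, hUN hx⟩, hle hx, rfl⟩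
        ext y
        constructor
        · intro hy
          have h2 : (y : G) ∈ Q.map N.subtype := ⟨y, hy, rfl⟩
          rw [h1] at h2
          exact h2
        · intro hy
          exact hle hy }
  obtain ⟨Q, hQ⟩ := (hKp.comap_subtype (K := N)).exists_le_sylow
  obtain ⟨g, hg⟩ := MulAction.exists_smul_eq N Us Q
  refine ⟨g, g.2, fun x hx => ?_⟩
  have h1 : (⟨x, hK hx⟩ : N) ∈ (Q : Subgroup N) := hQ hx
  rw [← hg] at h1
  rw [mem_cj]
  have h2 : (⟨x, hK hx⟩ : N) ∈ MulAut.conj g • (Us : Subgroup N) := h1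
  rw [Subgroup.mem_pointwise_smul_iff_inv_smul_mem] at h2
  have h3 : (g⁻¹ * ⟨x, hK hx⟩ * g : N) ∈ (Us : Subgroup N) := by
    have : (MulAut.conj g)⁻¹ • (⟨x, hK hx⟩ : N) = g⁻¹ * ⟨x, hK hx⟩ * g := by
      rw [← map_inv, MulAut.smul_def, MulAut.conj_apply, inv_inv]
    rwa [this] at h2
  exact h3

theorem frattini [Finite G] [Fact p.Prime] {x : G} (hx : ∀ n ∈ N, x * n * x⁻¹ ∈ N) :
    ∃ n ∈ N, cj x (VV e S fun _ => ∅) = cj n (VV e S fun _ => ∅) := by
  have h1 : cj x (VV e S fun _ => ∅) ≤ N := by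
    rintro _ ⟨y, hy, rfl⟩
    exact hx y (VV_le e S _ hy)
  obtain ⟨n, hn, h2⟩ := syl e S h1 ((VV_isPGroup e S _).map _)
  refine ⟨n, hn, Subgroup.eq_of_le_of_card_ge h2 ?_⟩
  rw [card_cj, card_cj]

end Par

/-! ### The `H`-side -/

/-- a core free maximal subgroup of `H` -/
structure MX {G : Type*} [Group G] (H N M : Subgroup G) : Prop where
  le : M ≤ H
  max : ∀ L, M ≤ L → L ≤ H → L = M ∨ L = H
  nle : ¬ N ≤ M

section Main

variable {G Y : Type*} [Group G] [Finite G] [Group Y] [Finite Y] {H N M : Subgroup G} {k : ℕ}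
  (e : N ≃* (Fin k → Y)) {p : ℕ} {I : Type*} (S : PSys Y p I)

/-- elements of `H` normalise `N` -/
theorem minN_iff (hN : MinN N H) {x : G} (hx : x ∈ H) (n : G) : n ∈ N ↔ x * n * x⁻¹ ∈ N := by
  refine ⟨fun hn => hN.nrm x hx n hn, fun hn => ?_⟩
  have := hN.nrm x⁻¹ (inv_mem hx) _ hn
  have e1 : x⁻¹ * (x * n * x⁻¹) * x⁻¹⁻¹ = n := by group
  rwa [e1] at this

theorem MX.ne (hM : MX H N M) (hNH : N ≤ H) : M ≠ H := fun h => hM.nle (h ▸ hNH)

/-- `H = N M` -/
theorem MX.fac (hN : MinN N H) (hM : MX H N M) {x : G} (hx : x ∈ H) : ∃ n ∈ N, ∃ m ∈ M, x = n * m := by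
  have h1 : M ⊔ N = H := by
    rcases hM.max (M ⊔ N) le_sup_left (sup_le hM.le hN.le) with h1 | h1
    · exact absurd (le_sup_right.trans h1.le) hM.nle
    · exact h1
  exact mem_sup_norm (fun m hm n hn => hN.nrm m (hM.le hm) n hn) (by rw [h1]; exact hx)

/-- a subgroup `Q` of `N` normalised by `M`: `N_H(Q) = M` -/
theorem MX.norm (hN : MinN N H) (hM : MX H N M) {Q : Subgroup G} (hQN : Q ≤ N) (hQ1 : Q ≠ ⊥) (hQ2 : Q ≠ N)
    (hQ : ∀ m ∈ M, ∀ a ∈ Q, m * a * m⁻¹ ∈ Q) {x : G} (hx : x ∈ H) (hxQ : cj x Q = Q) : x ∈ M := by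
  rcases hM.max (H ⊓ Subgroup.normalizer (Q : Set G)) (le_inf hM.le fun m hm => by
    rw [Subgroup.mem_normalizer_iff_map_conj_eq]
    exact cj_eq_of_nm (hQ m hm)) inf_le_left with h1 | h1
  · rw [← h1]
    refine ⟨hx, ?_⟩
    show x ∈ Subgroup.normalizer (Q : Set G)
    rw [Subgroup.mem_normalizer_iff_map_conj_eq]
    exact hxQ
  · exfalso
    rcases hN.min Q hQN ⟨hQN.trans hN.le, fun g hg a ha => by
      have h2 : g ∈ H ⊓ Subgroup.normalizer (Q : Set G) := by rw [h1]; exact hg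
      exact (Subgroup.mem_normalizer_iff.1 h2.2 a).1 ha⟩ with h2 | h2
    · exact hQ1 h2
    · exact hQ2 h2

/-- a subgroup of `N` normalised by `M`, not `N`, is in `M` -/
theorem MX.le_of_nm (hN : MinN N H) (hM : MX H N M) {Q : Subgroup G} (hQN : Q ≤ N) (hQ2 : Q ≠ N)
    (hQ : ∀ m ∈ M, ∀ a ∈ Q, m * a * m⁻¹ ∈ Q) : Q ≤ M := by
  by_cases hQ1 : Q = ⊥
  · rw [hQ1]; exact bot_le
  · intro x hx
    exact hM.norm hN hQN hQ1 hQ2 hQ (hN.le (hQN hx)) (cj_eq_self hx)

theorem MX.cj (hM : MX H N M) (hN : ∀ g ∈ H, ∀ n ∈ N, g * n * g⁻¹ ∈ N) {x : G} (hx : x ∈ H) : MX H N (cj x M) := by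
  have hH : H284.cj x H = H := cj_eq_self hx
  have hH' : H284.cj x⁻¹ H = H := cj_eq_self (inv_mem hx)
  refine ⟨by rw [← hH]; exact cj_mono hM.le, fun L hL hLH => ?_, fun h1 => hM.nle fun n hn => ?_⟩
  · rcases hM.max (H284.cj x⁻¹ L) (by rw [← cj_inv_cj x M]; exact cj_mono hL)
      (by rw [← hH']; exact cj_mono hLH) with h1 | h1
    · left
      rw [← h1, cj_cj_inv]
    · right
      rw [← hH, ← h1, cj_cj_inv]
  · have h2 := h1 (hN x hx n hn)
    rw [mem_cj] at h2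
    have e1 : x⁻¹ * (x * n * x⁻¹) * x = n := by group
    rwa [e1] at h2

variable [IsSimpleGroup Y] (hY : ∃ a b : Y, a * b ≠ b * a)

include hY

/-- no factor of `N` is in `M` -/
theorem fac_ne_top (hN : MinN N H) (hM : MX H N M) (i : Fin k) : fac e M i ≠ ⊤ := by
  intro htop
  have hsg : ∀ t, sg e i t ∈ M := fun t => by
    have : t ∈ fac e M i := by rw [htop]; trivial
    exact this
  let L : Subgroup G :=
    { carrier := {x | x ∈ N ∧ ∀ y ∈ H, y * x * y⁻¹ ∈ M}
      one_mem' := ⟨one_mem _, fun y _ => by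
        have : y * 1 * y⁻¹ = 1 := by group
        rw [this]; exact one_mem _⟩
      mul_mem' := by
        rintro a b ⟨h1, h2⟩ ⟨h3, h4⟩
        refine ⟨mul_mem h1 h3, fun y hy => ?_⟩
        have : y * (a * b) * y⁻¹ = (y * a * y⁻¹) * (y * b * y⁻¹) := by group
        rw [this]; exact mul_mem (h2 y hy) (h4 y hy)
      inv_mem' := by
        rintro a ⟨h1, h2⟩
        refine ⟨inv_mem h1, fun y hy => ?_⟩
        have : y * a⁻¹ * y⁻¹ = (y * a * y⁻¹)⁻¹ := by group
        rw [this]; exact inv_mem (h2 y hy) }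
  have hLN : L ≤ N := fun x hx => hx.1
  have hL : NIn L H := by
    refine ⟨hLN.trans hN.le, ?_⟩
    rintro g hg x ⟨h1, h2⟩
    refine ⟨hN.nrm g hg x h1, fun y hy => ?_⟩
    have : y * (g * x * g⁻¹) * y⁻¹ = (y * g) * x * (y * g)⁻¹ := by group
    rw [this]; exact h2 _ (mul_mem hy hg)
  have hmem : ∀ t, sg e i t ∈ L := by
    intro t
    refine ⟨sg_mem e i t, fun y hy => ?_⟩
    obtain ⟨n, hn, m, hm, e1⟩ := hM.fac hN (inv_mem hy)
    have e2 : y = m⁻¹ * n⁻¹ := by rw [← mul_inv_rev, ← e1, inv_inv]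
    have e3 : y * sg e i t * y⁻¹ = m⁻¹ * (n⁻¹ * sg e i t * n⁻¹⁻¹) * m⁻¹⁻¹ := by rw [e2]; group
    rw [e3, conj_sg e (inv_mem hn)]
    exact mul_mem (mul_mem (inv_mem hm) (hsg _)) (inv_mem (inv_mem hm))
  rcases hN.min L hLN hL with h1 | h1
  · obtain ⟨a, b, hab⟩ := hY
    apply hab
    have h2 : sg e i a = 1 := by
      have := hmem a
      rwa [h1, Subgroup.mem_bot] at this
    have h3 : a = 1 := by
      have := cp_sg e i a
      rw [h2, cp_one] at this
      exact this.symm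
    rw [h3, one_mul, mul_one]
  · apply hM.nle
    rw [← h1]
    intro x hx
    have := hx.2 1 (one_mem _)
    rwa [one_mul, inv_one, mul_one] at this

/-- **(KL)** a core free maximal subgroup over a product of unipotent radicals is parabolic -/
theorem KL (hN : MinN N H) (hM : MX H N M) {J : Fin k → Set I} (hJ : ∀ i, J i ≠ Set.univ) {g : Fin k → Y}
    (hV : ∀ i, H284.cj (g i) (S.V (J i)) ≤ Cfsg.Agent.H737.EPO.fac e M i) :
    ∃ (L : Fin k → Set I) (n : G), n ∈ N ∧ (∀ i, L i ≠ Set.univ) ∧ M ⊓ N = H284.cj n (PP e S L) := by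
  choose L c hL hKL hcan using fun i => S.canon (fac_ne_top e hY hN hM i) (hJ i) (hV i)
  have hnm : ∀ i t, (∀ s ∈ Cfsg.Agent.H737.EPO.fac e M i, t * s * t⁻¹ ∈ Cfsg.Agent.H737.EPO.fac e M i) →
      t ∈ H284.cj (c i) (S.P (L i)) := by
    intro i t ht
    have h1 := hcan i (MulAut.conj t) ht
    have h2 : H284.cj t (H284.cj (c i) (S.P (L i))) = H284.cj (c i) (S.P (L i)) :=
      cj_eq_of_nm fun a ha => h1 a ha
    rw [mem_cj]
    apply S.norm_P
    rw [cj_mul, cj_mul, h2, cj_inv_cj]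
  -- claim 1
  have h1 : ∀ x ∈ M ⊓ N, ∀ i, cp e x i ∈ H284.cj (c i) (S.P (L i)) := by
    rintro x ⟨hxM, hxN⟩ i
    apply hnm
    intro s hs
    show sg e i (cp e x i * s * (cp e x i)⁻¹) ∈ M
    rw [← conj_sg e hxN]
    exact mul_mem (mul_mem hxM hs) (inv_mem hxM)
  -- claim 2
  have h2 : ∀ i, ∀ t ∈ H284.cj (c i) (S.P (L i)), sg e i t ∈ M := by
    intro i t ht
    let Q : Subgroup G :=
      { carrier := {x | x ∈ N ∧ ∀ m ∈ M, cp e (m * x * m⁻¹) i ∈ H284.cj (c i) (S.P (L i))}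
        one_mem' := ⟨one_mem _, fun m _ => by
          have : m * 1 * m⁻¹ = 1 := by group
          rw [this, cp_one]; exact one_mem _⟩
        mul_mem' := by
          rintro a b ⟨h1, h2⟩ ⟨h3, h4⟩
          refine ⟨mul_mem h1 h3, fun m hm => ?_⟩
          have : m * (a * b) * m⁻¹ = (m * a * m⁻¹) * (m * b * m⁻¹) := by group
          rw [this, cp_mul e (hN.nrm m (hM.le hm) a h1) (hN.nrm m (hM.le hm) b h3)]
          exact mul_mem (h2 m hm) (h4 m hm)
        inv_mem' := by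
          rintro a ⟨h1, h2⟩
          refine ⟨inv_mem h1, fun m hm => ?_⟩
          have : m * a⁻¹ * m⁻¹ = (m * a * m⁻¹)⁻¹ := by group
          rw [this, cp_inv e (hN.nrm m (hM.le hm) a h1)]
          exact inv_mem (h2 m hm) }
    have hQM : Q ≤ M := by
      refine hM.le_of_nm hN (fun x hx => hx.1) ?_ ?_
      · intro hQN
        have h3 : ∀ s : Y, s ∈ H284.cj (c i) (S.P (L i)) := by
          intro s
          have h4 : sg e i s ∈ Q := by rw [hQN]; exact sg_mem e i s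
          have h5 := h4.2 1 (one_mem _)
          rwa [one_mul, inv_one, mul_one, cp_sg] at h5
        apply S.P_ne_top (hL i)
        rw [eq_top_iff]
        intro s _
        have h4 := h3 (c i * s * (c i)⁻¹)
        rw [mem_cj] at h4
        have e1 : (c i)⁻¹ * (c i * s * (c i)⁻¹) * c i = s := by group
        rwa [e1] at h4
      · rintro m hm x ⟨h3, h4⟩
        refine ⟨hN.nrm m (hM.le hm) x h3, fun m' hm' => ?_⟩
        have : m' * (m * x * m⁻¹) * m'⁻¹ = (m' * m) * x * (m' * m)⁻¹ := by group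
        rw [this]
        exact h4 _ (mul_mem hm' hm)
    apply hQM
    refine ⟨sg_mem e i t, fun m hm => ?_⟩
    rcases perm_sg e hY (minN_iff hN (hM.le hm)) i with h3 | ⟨φ, h3⟩
    · rw [h3]
      exact one_mem _
    · rw [h3, cp_sg]
      refine hcan i φ (fun s hs => ?_) t ht
      show sg e i (φ s) ∈ M
      rw [← h3]
      exact mul_mem (mul_mem hm hs) (inv_mem hm)
  obtain ⟨n, hn, hnc⟩ := exists_cp e c
  refine ⟨L, n, hn, hL, ?_⟩
  unfold PP
  rw [cj_pk e hn]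
  apply le_antisymm
  · intro x hx
    refine (mem_pk e).2 ⟨hx.2, fun i => ?_⟩
    rw [hnc]
    exact h1 x hx i
  · refine le_inf (pk_le_of_sg e fun i t ht => ?_) (pk_le e _)
    rw [hnc] at ht
    exact h2 i t ht

end Main

section Std

variable {G Y : Type*} [Group G] [Finite G] [Group Y] [Finite Y] {H N M M' : Subgroup G} {k : ℕ}
  (e : N ≃* (Fin k → Y)) {p : ℕ} {I : Type*} (S : PSys Y p I)

/-- `B_H = N_H(U)` -/
def BH (H : Subgroup G) {N : Subgroup G} (e : N ≃* (Fin k → Y)) (S : PSys Y p I) : Subgroup G :=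
  H ⊓ Subgroup.normalizer (VV e S (fun _ => ∅) : Set G)

/-- the parabolic subgroup of `H` of type `J` -/
def PH (H : Subgroup G) {N : Subgroup G} (e : N ≃* (Fin k → Y)) (S : PSys Y p I) (J : Fin k → Set I) : Subgroup G :=
  H ⊓ Subgroup.normalizer (PP e S J : Set G)

theorem mem_BH {x : G} : x ∈ BH H e S ↔ x ∈ H ∧ cj x (VV e S fun _ => ∅) = VV e S fun _ => ∅ := by
  unfold BH
  rw [Subgroup.mem_inf, Subgroup.mem_normalizer_iff_map_conj_eq]
  exact Iff.rfl

theorem mem_PH {J : Fin k → Set I} {x : G} : x ∈ PH H e S J ↔ x ∈ H ∧ cj x (PP e S J) = PP e S J := by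
  unfold PH
  rw [Subgroup.mem_inf, Subgroup.mem_normalizer_iff_map_conj_eq]
  exact Iff.rfl

/-- `H`-invariant types -/
def Inv (H : Subgroup G) {N : Subgroup G} (e : N ≃* (Fin k → Y)) (S : PSys Y p I) (J : Fin k → Set I) : Prop :=
  ∀ x ∈ BH H e S, cj x (PP e S J) = PP e S J

theorem BH_le_PH {J : Fin k → Set I} (hJ : Inv H e S J) : BH H e S ≤ PH H e S J := fun x hx =>
  (mem_PH e S).2 ⟨((mem_BH e S).1 hx).1, hJ x hx⟩

theorem PP_le_PH (hNH : N ≤ H) (J : Fin k → Set I) : PP e S J ≤ PH H e S J := fun _ hx =>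
  (mem_PH e S).2 ⟨hNH (PP_le e S J hx), cj_eq_self hx⟩

theorem PH_inf (hNH : N ≤ H) (J : Fin k → Set I) : PH H e S J ⊓ N = PP e S J := by
  apply le_antisymm
  · rintro x ⟨h1, h2⟩
    exact norm_PP e S h2 ((mem_PH e S).1 h1).2
  · exact le_inf (PP_le_PH e S hNH J) (PP_le e S J)

variable [Fact p.Prime]

/-- `P_J = (P_J ∩ N) B_H` -/
theorem mem_PH_fac (hN : ∀ g ∈ H, ∀ n ∈ N, g * n * g⁻¹ ∈ N) (hNH : N ≤ H) {J : Fin k → Set I} {x : G}
    (hx : x ∈ PH H e S J) : ∃ a ∈ PP e S J, ∃ b ∈ BH H e S, x = a * b := by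
  obtain ⟨hxH, hxJ⟩ := (mem_PH e S).1 hx
  obtain ⟨n, hn, h1⟩ := frattini e S (hN x hxH)
  have h2 : n ∈ PP e S J := by
    have h3 : VV e S (fun _ => ∅) ≤ cj n⁻¹ (PP e S J) := by
      rw [← cj_le_iff, ← h1, ← hxJ]
      exact cj_mono (VV_le_PP' e S _ _)
    have h4 := mem_of_UU_le e S (inv_mem hn) h3
    have := inv_mem h4
    rwa [inv_inv] at this
  refine ⟨n, h2, n⁻¹ * x, (mem_BH e S).2 ⟨mul_mem (inv_mem (hNH hn)) hxH, ?_⟩, by group⟩
  rw [cj_mul, h1, cj_inv_cj]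

/-- `B_H ∩ N = B_N` -/
theorem BH_cj_B {x : G} (hN : ∀ g ∈ H, ∀ n ∈ N, g * n * g⁻¹ ∈ N) (hx : x ∈ BH H e S) :
    cj x (PP e S fun _ => ∅) = PP e S fun _ => ∅ := by
  obtain ⟨hxH, hxU⟩ := (mem_BH e S).1 hx
  apply cj_eq_of_nm
  intro a ha
  have haN := PP_le e S _ ha
  apply norm_UU e S (hN x hxH a haN)
  have hxU' : cj x⁻¹ (VV e S fun _ => ∅) = VV e S fun _ => ∅ := by
    have h1 := congrArg (cj x⁻¹) hxU
    rw [cj_inv_cj] at h1
    exact h1.symm
  rw [cj_mul, cj_mul, hxU', cj_eq_of_nm (K := VV e S fun _ => ∅) (x := a), hxU]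
  intro v hv
  exact PP_nm e S ha hv

theorem Inv.sup {J L : Fin k → Set I} (hJ : Inv H e S J) (hL : Inv H e S L) : Inv H e S fun i => J i ∪ L i := by
  intro x hx
  rw [← PP_sup, cj_sup, hJ x hx, hL x hx]

theorem Inv.inf {J L : Fin k → Set I} (hJ : Inv H e S J) (hL : Inv H e S L) : Inv H e S fun i => J i ∩ L i := by
  intro x hx
  rw [← PP_inf, cj_inf, hJ x hx, hL x hx]

theorem Inv.compl (hN : ∀ g ∈ H, ∀ n ∈ N, g * n * g⁻¹ ∈ N) {J : Fin k → Set I} (hJ : Inv H e S J) :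
    Inv H e S fun i => (J i)ᶜ := by
  intro x hx
  have hxH := ((mem_BH e S).1 hx).1
  have h1 : PP e S (fun _ => ∅) ≤ cj x (PP e S fun i => (J i)ᶜ) := by
    rw [← BH_cj_B e S hN hx]
    exact cj_mono ((PP_le_iff e S).2 fun _ => Set.empty_subset _)
  have h2 : cj x (PP e S fun i => (J i)ᶜ) ≤ N := by
    rintro _ ⟨y, hy, rfl⟩
    exact hN x hxH y (PP_le e S _ hy)
  obtain ⟨K, hK⟩ := PP_over e S h1 h2
  rw [hK]
  congr 1
  have h3 : cj x (PP e S fun i => (J i)ᶜ) ⊔ PP e S J = N := by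
    rw [← hJ x hx, ← cj_sup, PP_sup]
    have : (fun i => (J i)ᶜ ∪ J i) = fun _ => Set.univ := by
      funext i; exact Set.compl_union_self _
    rw [this, PP_univ]
    exact cj_eq_of_nm fun a ha => hN x hxH a ha
  have h4 : cj x (PP e S fun i => (J i)ᶜ) ⊓ PP e S J = PP e S fun _ => ∅ := by
    rw [← hJ x hx, ← cj_inf, PP_inf]
    have : (fun i => (J i)ᶜ ∩ J i) = fun _ => ∅ := by
      funext i; exact Set.compl_inter_self _
    rw [this, BH_cj_B e S hN hx]
  rw [hK, PP_sup] at h3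
  rw [hK, PP_inf] at h4
  have h6 := PP_inj e S h4
  funext i
  have h7 : K i ∪ J i = Set.univ := univ_of_PP e S h3 i
  have h8 : K i ∩ J i = ∅ := congrFun h6 i
  apply Set.Subset.antisymm
  · intro a ha haJ
    have : a ∈ K i ∩ J i := ⟨ha, haJ⟩
    rw [h8] at this
    exact this
  · intro a ha
    have : a ∈ K i ∪ J i := by rw [h7]; trivial
    exact this.resolve_right ha

/-- `V_J` is normalised by `P_J(H)` -/
theorem PH_nm_VV {J : Fin k → Set I} {x : G} (hx : x ∈ PH H e S J) {v : G}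
    (hv : v ∈ VV e S J) : x * v * x⁻¹ ∈ VV e S J := by
  obtain ⟨hxH, hxJ⟩ := (mem_PH e S).1 hx
  have h1 : cj x (VV e S J) ≤ VV e S J := by
    apply VV_max e S
    · rw [← hxJ]
      exact cj_mono (VV_le_PP e S J)
    · exact (VV_isPGroup e S J).map _
    · intro g hg d hd
      rw [mem_cj] at hd ⊢
      have h2 : x⁻¹ * g * x ∈ PP e S J := by
        rw [← hxJ, mem_cj] at hg
        exact hg
      have h3 := PP_nm e S h2 hd
      have e1 : x⁻¹ * g * x * (x⁻¹ * d * x) * (x⁻¹ * g * x)⁻¹ = x⁻¹ * (g * d * g⁻¹) * x := by group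
      rwa [e1] at h3
  exact h1 (conj_mem_cj hv)

variable [IsSimpleGroup Y] (hY : ∃ a b : Y, a * b ≠ b * a)

include hY

/-- **(T)** core free maximal subgroups over `U` are the `P_L(H)`, `L` an invariant type, and contain `B_H` -/
theorem std [Nonempty I] (hN : MinN N H) (hM : MX H N M) (hU : VV e S (fun _ => ∅) ≤ M) :
    ∃ L : Fin k → Set I, (∀ i, L i ≠ Set.univ) ∧ M ⊓ N = PP e S L ∧ Inv H e S L ∧ M = PH H e S L ∧ BH H e S ≤ M := by
  have hne : (∅ : Set I) ≠ Set.univ := Set.empty_ne_univ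
  obtain ⟨L, n, hn, hL, hMN⟩ := KL e S hY hN hM (J := fun _ => ∅) (fun _ => hne) (g := fun _ => 1) (fun i => by
    rw [cj_one]
    intro t ht
    exact hU ((sg_mem_pk e).2 ht))
  have h1 : n ∈ PP e S L := mem_of_UU_le e S hn (by rw [← hMN]; exact le_inf hU (VV_le e S _))
  have h2 : M ⊓ N = PP e S L := by rw [hMN]; exact cj_eq_self h1
  have hnm : ∀ m ∈ M, ∀ a ∈ PP e S L, m * a * m⁻¹ ∈ PP e S L := by
    intro m hm a ha
    rw [← h2] at ha ⊢
    exact ⟨M.mul_mem (M.mul_mem hm ha.1) (M.inv_mem hm), hN.nrm m (hM.le hm) a ha.2⟩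
  have hQN : PP e S L ≠ N := by
    intro h3
    have hk : ∃ i : Fin k, True := by
      by_contra hcon
      push Not at hcon
      apply hN.ne
      rw [Subgroup.eq_bot_iff_forall]
      intro x hx
      exact ext_cp e hx (one_mem _) fun i => (hcon i).elim
    obtain ⟨i, -⟩ := hk
    exact hL i (univ_of_PP e S h3 i)
  have hQ1 : PP e S L ≠ ⊥ := by
    intro h3
    have h4 : ∀ _ : Fin k, S.P ∅ = ⊥ := by
      intro i
      rw [Subgroup.eq_bot_iff_forall]
      intro t ht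
      have h5 : sg e i t ∈ PP e S L := (sg_mem_pk e).2 (S.P_mono (Set.empty_subset _) ht)
      rw [h3, Subgroup.mem_bot] at h5
      have := cp_sg e i t
      rw [h5, cp_one] at this
      exact this.symm
    have hk : ∃ i : Fin k, True := by
      by_contra hcon
      push Not at hcon
      apply hN.ne
      rw [Subgroup.eq_bot_iff_forall]
      intro x hx
      exact ext_cp e hx (one_mem _) fun i => (hcon i).elim
    obtain ⟨i, -⟩ := hk
    have h5 : S.V ∅ = ⊥ := by rw [eq_bot_iff, ← h4 i]; exact S.V_le ∅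
    have h6 := S.U_norm
    rw [h5, h4 i] at h6
    have h7 : (⊤ : Subgroup Y) ≤ ⊥ := by
      rw [← h6]
      intro t _
      rw [Subgroup.mem_normalizer_iff_map_conj_eq]
      exact Subgroup.map_bot _
    obtain ⟨a, b, hab⟩ := hY
    have ha : a = 1 := h7 (Subgroup.mem_top a)
    exact hab (by rw [ha, one_mul, mul_one])
  have hmem : ∀ x ∈ H, cj x (PP e S L) = PP e S L → x ∈ M := fun x hx hxQ =>
    hM.norm hN (PP_le e S L) hQ1 hQN hnm hx hxQ
  have hInv : Inv H e S L := by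
    intro x hx
    obtain ⟨hxH, hxU⟩ := (mem_BH e S).1 hx
    obtain ⟨n', hn', m, hm, rfl⟩ := hM.fac hN hxH
    have h3 : cj m (PP e S L) = PP e S L := cj_eq_of_nm (hnm m hm)
    rw [cj_mul, h3]
    apply cj_eq_self
    apply mem_of_UU_le e S hn'
    rw [← h3, ← cj_mul, ← hxU]
    exact cj_mono (VV_le_PP' e S _ _)
  refine ⟨L, hL, h2, hInv, le_antisymm (fun m hm => (mem_PH e S).2 ⟨hM.le hm, cj_eq_of_nm (hnm m hm)⟩)
    (fun x hx => ?_), fun x hx => hmem x ((mem_BH e S).1 hx).1 (hInv x hx)⟩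
  obtain ⟨h3, h4⟩ := (mem_PH e S).1 hx
  exact hmem x h3 h4

omit hY in
theorem PH_le_iff (hN : ∀ g ∈ H, ∀ n ∈ N, g * n * g⁻¹ ∈ N) (hNH : N ≤ H) {J L : Fin k → Set I}
    (hL : Inv H e S L) : PH H e S J ≤ PH H e S L ↔ ∀ i, J i ⊆ L i := by
  constructor
  · intro h1
    rw [← PP_le_iff e S, ← PH_inf e S hNH J, ← PH_inf e S hNH L]
    exact inf_le_inf_right _ h1
  · intro h1 x hx
    obtain ⟨a, ha, b, hb, rfl⟩ := mem_PH_fac e S hN hNH hx
    exact mul_mem (PP_le_PH e S hNH L ((PP_le_iff e S).2 h1 ha)) (BH_le_PH e S hL hb)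

/-- **(U)** `L` the type of `M`: the only core free maximal subgroup over `U` not containing `P_{Lᶜ}(H)` is `M` -/
theorem uniq [Nonempty I] (hN : MinN N H) (hM : MX H N M) {L : Fin k → Set I} (hL : Inv H e S L)
    (hML : M = PH H e S L) (hM' : MX H N M') (hU' : VV e S (fun _ => ∅) ≤ M')
    (hP : ¬ PH H e S (fun i => (L i)ᶜ) ≤ M') : M' = M := by
  obtain ⟨L', hL'ne, hL'1, hL'i, hL'e, -⟩ := std e S hY hN hM' hU'
  have hNn := hN.nrm
  have hsup := Inv.sup e S hL hL'i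
  rcases hM.max (PH H e S fun i => L i ∪ L' i) (by
    rw [hML]
    exact (PH_le_iff e S hNn hN.le hsup).2 fun i => Set.subset_union_left) inf_le_left with h1 | h1
  · have h2 : M' ≤ M := by
      rw [hL'e, hML]
      rw [hML] at h1
      refine (PH_le_iff e S hNn hN.le hL).2 fun i => ?_
      have h3 := (PH_le_iff e S hNn hN.le hL).1 h1.le i
      exact Set.subset_union_right.trans h3
    rcases hM'.max M h2 hM.le with h3 | h3
    · exact h3.symm
    · exact absurd h3 (hM.ne hN.le)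
  · exfalso
    apply hP
    rw [hL'e]
    refine (PH_le_iff e S hNn hN.le hL'i).2 fun i => ?_
    have h2 : PP e S (fun i => L i ∪ L' i) = N := by
      rw [← PH_inf e S hN.le, h1]
      exact inf_eq_right.2 hN.le
    have h3 : L i ∪ L' i = Set.univ := univ_of_PP e S h2 i
    intro a ha
    have : a ∈ L i ∪ L' i := by rw [h3]; trivial
    exact this.resolve_left ha

/-- an invariant type containing a whole component is everything -/
theorem inv_ne_univ (hN : MinN N H) {K : Fin k → Set I} (hK : Inv H e S K) {i : Fin k} (hi : K i ≠ Set.univ)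
    (j : Fin k) : K j ≠ Set.univ := by
  intro hj
  have h1 : ∀ t, sg e j t ∈ PP e S K := fun t => (sg_mem_pk e).2 (by rw [hj, S.P_univ]; trivial)
  let L : Subgroup G :=
    { carrier := {x | x ∈ N ∧ ∀ y ∈ H, y * x * y⁻¹ ∈ PP e S K}
      one_mem' := ⟨one_mem _, fun y _ => by
        have : y * 1 * y⁻¹ = 1 := by group
        rw [this]; exact one_mem _⟩
      mul_mem' := by
        rintro a b ⟨h1, h2⟩ ⟨h3, h4⟩
        refine ⟨mul_mem h1 h3, fun y hy => ?_⟩
        have : y * (a * b) * y⁻¹ = (y * a * y⁻¹) * (y * b * y⁻¹) := by group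
        rw [this]; exact mul_mem (h2 y hy) (h4 y hy)
      inv_mem' := by
        rintro a ⟨h1, h2⟩
        refine ⟨inv_mem h1, fun y hy => ?_⟩
        have : y * a⁻¹ * y⁻¹ = (y * a * y⁻¹)⁻¹ := by group
        rw [this]; exact inv_mem (h2 y hy) }
  have hL : NIn L H := by
    refine ⟨fun x hx => hN.le hx.1, ?_⟩
    rintro g hg x ⟨h1, h2⟩
    refine ⟨hN.nrm g hg x h1, fun y hy => ?_⟩
    have : y * (g * x * g⁻¹) * y⁻¹ = (y * g) * x * (y * g)⁻¹ := by group
    rw [this]; exact h2 _ (mul_mem hy hg)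
  have hHtop : PH H e S (fun _ => Set.univ) = H := by
    apply le_antisymm inf_le_left
    intro x hx
    show x ∈ PH H e S fun _ => Set.univ
    rw [mem_PH, PP_univ]
    exact ⟨hx, cj_eq_of_nm fun a ha => hN.nrm x hx a ha⟩
  have hmem : ∀ t, sg e j t ∈ L := by
    intro t
    refine ⟨sg_mem e j t, fun y hy => ?_⟩
    rw [← inv_inv y] at hy ⊢
    rw [← hHtop] at hy
    obtain ⟨a, ha, b, hb, hab⟩ := mem_PH_fac e S hN.nrm hN.le (inv_mem hy)
    rw [inv_inv] at hab
    have hb' := hK b⁻¹ (inv_mem hb)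
    have e3 : y⁻¹⁻¹ * sg e j t * y⁻¹⁻¹⁻¹ = b⁻¹ * (a⁻¹ * sg e j t * a⁻¹⁻¹) * b⁻¹⁻¹ := by rw [hab]; group
    rw [e3, conj_sg e (inv_mem (PP_le e S _ ha))]
    exact nm_of_cj_eq hb' (h1 _)
  rcases hN.min L (fun x hx => hx.1) hL with h2 | h2
  · obtain ⟨a, b, hab⟩ := hY
    apply hab
    have h3 : sg e j a = 1 := by
      have := hmem a
      rwa [h2, Subgroup.mem_bot] at this
    have h4 : a = 1 := by
      have := cp_sg e j a
      rw [h3, cp_one] at this
      exact this.symm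
    rw [h4, one_mul, mul_one]
  · apply hi
    have h3 : PP e S K = N := by
      apply le_antisymm (PP_le e S K)
      intro x hx
      rw [← h2] at hx
      have := hx.2 1 (one_mem _)
      rwa [one_mul, inv_one, mul_one] at this
    exact univ_of_PP e S h3 i

/-- **(K″)** core free maximal subgroups over `V_K`, `K` invariant proper: some `P_K`-conjugate contains `B_H` -/
theorem par [Nonempty I] (hN : MinN N H) {K : Fin k → Set I} (hK1 : ∀ i, K i ≠ Set.univ) (hM' : MX H N M')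
    (hV : VV e S K ≤ M') : ∃ a ∈ PP e S K, BH H e S ≤ cj a M' ∧ VV e S (fun _ => ∅) ≤ cj a M' := by
  obtain ⟨L, n, hn, hL, hMN⟩ := KL e S hY hN hM' (J := K) hK1 (g := fun _ => 1) (fun i => by
    rw [cj_one]
    intro t ht
    exact hV ((sg_mem_pk e).2 ht))
  obtain ⟨a, ha, b, hb, rfl⟩ := PP_dec e S hn (K := K) (L := L) (by rw [← hMN]; exact le_inf hV (VV_le e S _))
  have h1 : M' ⊓ N = cj a (PP e S L) := by rw [hMN, cj_mul, cj_eq_self hb]
  have h2 : VV e S (fun _ => ∅) ≤ cj a⁻¹ M' := by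
    have h3 : PP e S L ≤ cj a⁻¹ M' := by
      rw [← cj_le_iff, ← h1]
      exact inf_le_left
    exact (VV_le_PP' e S _ _).trans h3
  obtain ⟨-, -, -, -, -, h3⟩ := std e S hY hN (hM'.cj hN.nrm (inv_mem (hN.le (PP_le e S K ha)))) h2
  exact ⟨a⁻¹, inv_mem ha, h3, h2⟩

end Std

end Cfsg.Agent.H737.EPO
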