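import Cfsg.Agent.H737.EPO.Node

/-!
# S5745 / S3499, OWN characteristic: case (B) assembled (helper737)
-/

set_option autoImplicit false
set_option linter.unusedSectionVars false

namespace Cfsg.Agent.H737.EPO

open Cfsg.Agent.H284 Cfsg.Agent.H209.EPX
open scoped Pointwise

/-- the output of the `G`-side (helper470's `exists_DQ`) -/
def DQ {G Y : Type*} [Group G] [Group Y] (H : Subgroup G) {N : Subgroup G} {k p : ℕ} {I : Type*}
    (e : N ≃* (Fin k → Y)) (S : PSys Y p I) (J : Fin k → Set I) : Prop :=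
  ∃ D Q : Subgroup G, VV e S J ≤ D ∧ D ≤ PH H e S J ∧ IsPGroup p D ∧
    (∀ g ∈ PH H e S J, ∀ d ∈ D, g * d * g⁻¹ ∈ D) ∧ IsPGroup p Q ∧
    (∀ g ∈ PH H e S J, ∀ w ∈ Q, g * w * g⁻¹ ∈ Q) ∧ D ≤ Q ∧ Q ⊓ H = D ∧ Q ≠ D

section

variable {G Y : Type*} [Group G] [Finite G] [Group Y] [Finite Y] {H N M R D W : Subgroup G} {k : ℕ}
  (e : N ≃* (Fin k → Y)) {p : ℕ} {I : Type*} {S : PSys Y p I} [Fact p.Prime]

/-- a normal `p`-subgroup of `P ≥ R`, `R` Sylow in `H`, is in `R` -/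
theorem le_R_of_normal {P : Subgroup G} (hR : SylIn H R p) (hPH : P ≤ H) (hRP : R ≤ P) (hDP : D ≤ P) (hD : IsPGroup p D)
    (hDn : ∀ g ∈ P, ∀ d ∈ D, g * d * g⁻¹ ∈ D) : D ≤ R := by
  have h1 : R ≤ Subgroup.normalizer (D : Set G) := by
    intro r hr
    rw [Subgroup.mem_normalizer_iff_map_conj_eq]
    exact cj_eq_of_nm (hDn r (hRP hr))
  have h2 : IsPGroup p (R ⊔ D : Subgroup G) := hR.pg.to_sup_of_normal_right' hD h1
  have h3 := hR.mx (R ⊔ D) (sup_le hR.le (hDP.trans hPH)) h2 le_sup_left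
  rw [← h3]
  exact le_sup_right

/-- **a two point stabiliser above `R`** -/
theorem exists_M {P Q : Subgroup G} (hR : SylIn H R p) (hRP : R ≤ P) (hDR : D ≤ R) (hQ : IsPGroup p Q)
    (hQn : ∀ g ∈ P, ∀ w ∈ Q, g * w * g⁻¹ ∈ Q) (hQH : Q ⊓ H = D) (hQD : Q ≠ D) :
    ∃ M ∈ EP.twoSet H, R ≤ M := by
  have h1 : R ≤ Subgroup.normalizer (Q : Set G) := by
    intro r hr
    rw [Subgroup.mem_normalizer_iff_map_conj_eq]
    exact cj_eq_of_nm (hQn r (hRP hr))
  have h2 : IsPGroup p (R ⊔ Q : Subgroup G) := hR.pg.to_sup_of_normal_right' hQ h1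
  have h3 : R ≠ R ⊔ Q := by
    intro h4
    apply hQD
    rw [← hQH]
    exact (inf_eq_left.2 ((le_sup_right.trans h4.ge).trans hR.le)).symm
  obtain ⟨y, hyQ, hyR, hyn⟩ := exists_norm_lt (Fact.out : p.Prime) h2 le_sup_left h3.symm
  obtain ⟨w, hw, r, hr, rfl⟩ := mem_sup_norm (M := R) (N := Q) (fun m hm n hn => hQn m (hRP hm) n hn) hyQ
  have hwR : ∀ s ∈ R, w * s * w⁻¹ ∈ R := by
    intro s hs
    have h4 := hyn (r⁻¹ * s * r) (mul_mem (mul_mem (inv_mem hr) hs) hr)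
    have e1 : w * r * (r⁻¹ * s * r) * (w * r)⁻¹ = w * s * w⁻¹ := by group
    rwa [e1] at h4
  have hwH : w ∉ H := by
    intro h4
    apply hyR
    have h5 : w ∈ Q ⊓ H := ⟨hw, h4⟩
    rw [hQH] at h5
    exact mul_mem (hDR h5) hr
  refine ⟨H ⊓ cj w H, ⟨w, hwH, rfl⟩, le_inf hR.le ?_⟩
  have h5 : cj w R = R := cj_eq_of_nm hwR
  rw [← h5]
  exact cj_mono hR.le

variable [IsSimpleGroup Y] (hY : ∃ a b : Y, a * b ≠ b * a)

/-- `V_J ≠ 1` for proper types -/
theorem VV_ne_bot {J : Fin k → Set I} {i : Fin k} (hi : J i ≠ Set.univ) : VV e S J ≠ ⊥ := by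
  intro h1
  have h2 : S.V (J i) = ⊥ := by
    rw [Subgroup.eq_bot_iff_forall]
    intro t ht
    have h3 : sg e i t ∈ VV e S J := (sg_mem_pk e).2 ht
    rw [h1, Subgroup.mem_bot] at h3
    have := cp_sg e i t
    rw [h3, cp_one] at this
    exact this.symm
  -- `V_{J} = 1` normal: then `P_{J} = Y` by maximality of `V`
  have h3 : (⊥ : Subgroup Y) = cj (1 : Y) (S.V (J i)) := by rw [h2, cj_one]
  have h4 : ∀ g : Y, g ∈ S.P (J i) := by
    intro g
    have h5 : S.V (J i) ≤ cj g (S.P ∅) := by rw [h2]; exact bot_le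
    obtain ⟨a, ha, b, hb, rfl⟩ := S.dec h5
    exact mul_mem ha (S.P_mono (Set.empty_subset _) hb)
  apply hi
  apply S.P_inj
  rw [S.P_univ, eq_top_iff]
  exact fun g _ => h4 g

include hY

/-- **CASE (B)**: relative rank at least two. -/
theorem own_B [Nonempty I] (hS : Rk S) (h : EP H) (hN : MinN N H) (hR : SylIn H R p)
    (hRN : R ⊓ N = VV e S fun _ => ∅) (hDQ : ∀ J : Fin k → Set I, VV e S J ≠ ⊥ → DQ H e S J)
    {J₀ : Fin k → Set I} (hJ₀ : Inv H e S J₀) {i₀ i₁ : Fin k} (h0 : J₀ i₀ ≠ ∅) (h1 : J₀ i₁ ≠ Set.univ) :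
    p = 2 ∧ k = 1 ∧ (∃ M ∈ EP.twoSet H, R ≤ M) ∧ ∀ M ∈ EP.twoSet H, R ≤ M → ∃ j : I,
      (S.V {j}).relIndex (S.V ∅) = 2 ∧ Inv H e S (fun _ => {j}) ∧ M = PH H e S (fun _ => {j}ᶜ) := by
  -- the two point stabilisers above `R`
  have hRBH : R ≤ BH H e S := fun r hr => R_le_BH e S hN.nrm hRN (hR.le hr) fun s hs =>
    mul_mem (mul_mem hr hs) (inv_mem hr)
  have key : ∀ M ∈ EP.twoSet H, R ≤ M → p = 2 ∧ k = 1 ∧ ∃ j : I, (S.V {j}).relIndex (S.V ∅) = 2 ∧
      Inv H e S (fun _ => {j}) ∧ M = PH H e S (fun _ => {j}ᶜ) := by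
    intro M hM hRM
    have hMX := mx_of_two h hN hM
    obtain ⟨L, hL1, -, hLi, hML, -⟩ := std e S hY hN hMX (by rw [← hRN]; exact inf_le_left.trans hRM)
    -- `L ≠ ∅`
    have hLne : ∃ i, L i ≠ ∅ := by
      by_contra hcon
      push Not at hcon
      have hLe : L = fun _ => ∅ := funext hcon
      rw [hLe] at hML
      rcases hMX.max (PH H e S J₀) (by
        rw [hML]
        exact (PH_le_iff e S hN.nrm hN.le hJ₀).2 fun _ => Set.empty_subset _) inf_le_left with h2 | h2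
      · apply h0
        rw [hML] at h2
        have h3 : Inv H e S (fun _ => ∅) := by rw [← hLe]; exact hLi
        have h4 := (PH_le_iff e S hN.nrm hN.le h3).1 h2.le i₀
        exact Set.subset_empty_iff.1 h4
      · apply h1
        apply univ_of_PP e S
        rw [← PH_inf e S hN.le, h2]
        exact inf_eq_right.2 hN.le
    obtain ⟨i₂, hi₂⟩ := hLne
    set K : Fin k → Set I := fun i => (L i)ᶜ with hK
    have hKi : Inv H e S K := Inv.compl e S hN.nrm hLi
    have hK1 : ∀ i, K i ≠ Set.univ := inv_ne_univ e S hY hN hKi (i := i₂) (by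
      rw [hK]
      simp only [Ne, Set.compl_univ_iff]
      exact hi₂)
    obtain ⟨D, Q, hVD, hDP, hDp, hDn, hQp, hQn, hDQ', hQH, hQD⟩ := hDQ K (VV_ne_bot e (hK1 i₂))
    have hRP : R ≤ PH H e S K := hRBH.trans (BH_le_PH e S hKi)
    have hDR : D ≤ R := le_R_of_normal hR inf_le_left hRP hDP hDp hDn
    have c := panelB e S hY h hN hR hRN hM hRM hLi hL1 hML (i₀ := i₂) hi₂ hDR hVD hDn
    obtain ⟨W, -, hWD, v⟩ := exists_vecB (Fact.out : p.Prime) hDn hQp hQn hDQ' hQH hQD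
    obtain ⟨j, hj⟩ : ∃ j, j ∉ L i₂ := by
      by_contra hcon
      push Not at hcon
      exact hL1 i₂ (Set.eq_univ_of_forall hcon)
    obtain ⟨h2, h3, -, -⟩ := node_two e hS hN.nrm hN.le hLi hML c v hWD (i := i₂) (j := j) hj hj
    have huniq : ∀ i' j', j' ∉ L i' → i₂ = i' ∧ j = j' := fun i' j' hj' =>
      node_unique e hS hN.nrm hN.le hLi hML hRN c v hWD hj hj hj' hj'
    have hk : k = 1 := by
      have h4 : ∀ i', i₂ = i' := by
        intro i'
        obtain ⟨j', hj'⟩ : ∃ j', j' ∉ L i' := by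
          by_contra hcon
          push Not at hcon
          exact hL1 i' (Set.eq_univ_of_forall hcon)
        exact (huniq i' j' hj').1
      have h5 : Subsingleton (Fin k) := ⟨fun a b => (h4 a).symm.trans (h4 b)⟩
      have h6 := Fintype.card_le_one_iff_subsingleton.2 h5
      rw [Fintype.card_fin] at h6
      have := i₂.pos
      omega
    have hLj : L = fun _ => {j}ᶜ := by
      funext i
      ext a
      constructor
      · intro ha haj
        rw [Set.mem_singleton_iff] at haj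
        rw [haj] at ha
        have hi : i₂ = i := by
          have h5 : Subsingleton (Fin k) := by rw [hk]; infer_instance
          exact Subsingleton.elim _ _
        rw [← hi] at ha
        exact hj ha
      · intro ha
        by_contra ha'
        exact ha (huniq i a ha').2.symm
    refine ⟨h2, hk, j, by rw [← VV_index e i₂ j]; exact h3, ?_, by rw [hML, hLj]⟩
    have h7 : K = fun _ => {j} := by
      rw [hK, hLj]
      funext i
      exact compl_compl _
    rw [← h7]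
    exact hKi
  -- existence
  obtain ⟨M, hM, hRM⟩ : ∃ M ∈ EP.twoSet H, R ≤ M := by
    have hinv0 : Inv H e S (fun _ => ∅) := fun x hx => BH_cj_B e S hN.nrm hx
    obtain ⟨D, Q, hVD, hDP, hDp, hDn, hQp, hQn, hDQ', hQH, hQD⟩ := hDQ (fun _ => ∅)
      (VV_ne_bot e (i := i₀) Set.empty_ne_univ)
    have hRP : R ≤ PH H e S (fun _ => ∅) := hRBH.trans (BH_le_PH e S hinv0)
    exact exists_M hR hRP (le_R_of_normal hR inf_le_left hRP hDP hDp hDn) hQp hQn hQH hQD
  obtain ⟨h2, h3, -⟩ := key M hM hRM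
  exact ⟨h2, h3, ⟨M, hM, hRM⟩, fun M' hM' hRM' => (key M' hM' hRM').2.2⟩

end

end Cfsg.Agent.H737.EPO
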