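import Cfsg.Agent.H737.EPO.HSideB

/-!
# S5745 / S3499, OWN characteristic: residues (helper737)

* `Rk S` : the rank one facts of a parabolic system; `rk_ofRGD`;
* `PP_desc`, `PP_trans`, `PP_index` : the same in `N ≅ Y^k`.
-/

set_option autoImplicit false
set_option linter.unusedSectionVars false

namespace Cfsg.Agent.H737.EPO

open Cfsg.Agent.H284 Cfsg.Agent.H209.EPX
open scoped Pointwise

/-- rank one facts -/
structure Rk {Y : Type*} [Group Y] {p : ℕ} {I : Type*} (S : PSys Y p I) : Prop where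
  desc : ∀ {J : Set I} {g : Y}, g ∈ S.P J → g ∉ S.P ∅ → ∃ i ∈ J, ∀ u ∈ S.V ∅, g⁻¹ * u * g ∈ S.P ∅ → u ∈ S.V {i}
  trans : ∀ {j : I} {x y : Y}, x ∈ S.P {j} → x ∉ S.P ∅ → y ∈ S.P {j} → y ∉ S.P ∅ →
    ∃ u ∈ S.V ∅, y⁻¹ * u * x ∈ S.P ∅
  ne : ∀ j : I, S.V {j} ≠ S.V ∅

/-- index of the stabiliser of a point, two orbits -/
theorem index_two {Y : Type*} [Group Y] [Finite Y] {A B U V : Subgroup Y} (hUA : U ≤ A) {x : Y} (hx : x ∈ A)
    (hxB : x ∉ B) (hUB : U ≤ B) (htr : ∀ y ∈ A, y ∉ B → ∃ u ∈ U, y⁻¹ * u * x ∈ B)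
    (hst : ∀ u ∈ U, x⁻¹ * u * x ∈ B ↔ u ∈ V) : B.relIndex A = 1 + V.relIndex U := by
  classical
  have hout : ∀ (q : U ⧸ V.subgroupOf U) (u : U), (QuotientGroup.mk u : U ⧸ V.subgroupOf U) = q →
      ((q.out : U) : Y)⁻¹ * u ∈ V := by
    intro q u hq
    have h1 : (QuotientGroup.mk q.out : U ⧸ V.subgroupOf U) = QuotientGroup.mk u := by
      rw [QuotientGroup.out_eq', hq]
    have h2 : (q.out)⁻¹ * u ∈ V.subgroupOf U := QuotientGroup.eq.1 h1
    exact h2
  let f : Option (U ⧸ V.subgroupOf U) → A ⧸ B.subgroupOf A := fun o =>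
    match o with
    | none => QuotientGroup.mk 1
    | some q => QuotientGroup.mk ⟨(q.out : U) * x, mul_mem (hUA q.out.2) hx⟩
  have hf : Function.Bijective f := by
    constructor
    · intro a b hab
      cases a with
      | none =>
        cases b with
        | none => rfl
        | some q =>
          exfalso
          have h0 : ((1 : A))⁻¹ * ⟨(q.out : U) * x, mul_mem (hUA q.out.2) hx⟩ ∈ B.subgroupOf A := QuotientGroup.eq.1 hab
          have h1 : (1 : Y)⁻¹ * ((q.out : U) * x) ∈ B := h0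
          apply hxB
          have := mul_mem (inv_mem (hUB q.out.2)) h1
          simpa using this
      | some q =>
        cases b with
        | none =>
          exfalso
          have h0 : (⟨(q.out : U) * x, mul_mem (hUA q.out.2) hx⟩ : A)⁻¹ * 1 ∈ B.subgroupOf A := QuotientGroup.eq.1 hab
          have h1 : ((q.out : U) * x : Y)⁻¹ * 1 ∈ B := h0
          apply hxB
          have := mul_mem (inv_mem (hUB q.out.2)) (inv_mem h1)
          simpa using this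
        | some q' =>
          have h0 : (⟨(q.out : U) * x, mul_mem (hUA q.out.2) hx⟩ : A)⁻¹ * ⟨(q'.out : U) * x, mul_mem (hUA q'.out.2) hx⟩ ∈
            B.subgroupOf A := QuotientGroup.eq.1 hab
          have h1 : ((q.out : U) * x : Y)⁻¹ * ((q'.out : U) * x) ∈ B := h0
          have h2 : ((q.out : U) : Y)⁻¹ * (q'.out : U) ∈ V := by
            apply (hst _ (mul_mem (inv_mem q.out.2) q'.out.2)).1
            have : ((q.out : U) * x : Y)⁻¹ * ((q'.out : U) * x) = x⁻¹ * (((q.out : U) : Y)⁻¹ * (q'.out : U)) * x := by group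
            rwa [← this]
          have h3 : (QuotientGroup.mk q.out : U ⧸ V.subgroupOf U) = QuotientGroup.mk q'.out := QuotientGroup.eq.2 h2
          rw [QuotientGroup.out_eq', QuotientGroup.out_eq'] at h3
          rw [h3]
    · intro q
      induction q using QuotientGroup.induction_on with
      | H y =>
        by_cases hy : (y : Y) ∈ B
        · refine ⟨none, ?_⟩
          show QuotientGroup.mk 1 = QuotientGroup.mk y
          rw [QuotientGroup.eq]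
          show ((1 : A)⁻¹ * y : A) ∈ B.subgroupOf A
          rw [Subgroup.mem_subgroupOf]
          simpa using hy
        · obtain ⟨u, hu, h1⟩ := htr y y.2 hy
          refine ⟨some (QuotientGroup.mk ⟨u, hu⟩), ?_⟩
          show QuotientGroup.mk _ = QuotientGroup.mk y
          rw [QuotientGroup.eq, Subgroup.mem_subgroupOf]
          have h2 := hout (QuotientGroup.mk ⟨u, hu⟩) ⟨u, hu⟩ rfl
          set o : U := (QuotientGroup.mk ⟨u, hu⟩ : U ⧸ V.subgroupOf U).out with ho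
          show ((o : Y) * x)⁻¹ * y ∈ B
          have h3 : x⁻¹ * ((o : Y)⁻¹ * u) * x ∈ B := (hst _ (mul_mem (inv_mem o.2) hu)).2 h2
          have e1 : ((o : Y) * x)⁻¹ * y = x⁻¹ * ((o : Y)⁻¹ * u) * x * (((y : Y)⁻¹ * u * x)⁻¹) := by group
          rw [e1]
          exact mul_mem h3 (inv_mem h1)
  rw [Subgroup.relIndex, Subgroup.relIndex, Subgroup.index, Subgroup.index, ← Nat.card_congr (Equiv.ofBijective f hf),
    Finite.card_option, add_comm]

theorem p_index {Y : Type*} [Group Y] [Finite Y] {p : ℕ} [Fact p.Prime] {U V : Subgroup Y} (hU : IsPGroup p U)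
    (hVU : V ≤ U) (hne : V ≠ U) : ∃ a, 1 ≤ a ∧ V.relIndex U = p ^ a := by
  obtain ⟨m, hm⟩ := IsPGroup.iff_card.1 hU
  have h1 : V.relIndex U ∣ p ^ m := by
    rw [← hm]
    exact Subgroup.relIndex_dvd_card _ _
  obtain ⟨a, -, ha⟩ := (Nat.dvd_prime_pow (Fact.out : p.Prime)).1 h1
  refine ⟨a, ?_, ha⟩
  by_contra h2
  have h3 : a = 0 := by omega
  rw [h3, pow_zero, Subgroup.relIndex_eq_one] at ha
  exact hne (le_antisymm hVU ha)

/-! ### Root group data -/

section RGD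

open CoxeterSystem Cfsg.Agent.ChevalleyStructure.CoxeterGeom Cfsg.Agent.Tits.Roots Cfsg.Agent.Tits.Core
  Cfsg.Agent.Tits.RootComb Cfsg.Agent.Tits.Exchange Cfsg.Agent.Nodes.Reps Cfsg.Agent.Nodes.BNOf
  Cfsg.Agent.Nodes.StabComb Cfsg.Agent.Nodes.Bruhat Cfsg.Agent.Nodes.OppDec Cfsg.Agent.Nodes.LeviDec
  Cfsg.Agent.Nodes.Coroot Cfsg.Agent.KFacts.RgdPar Cfsg.Agent.KFacts.RgdSL Cfsg.Agent.KFacts.RgdVJ
  Cfsg.Agent.KFacts.RgdCharP

variable {I W Y : Type*} [Fintype I] [DecidableEq I] [Group W] [Group Y] {M : CoxeterMatrix I}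
  {cs : CoxeterSystem M W} {A : I → I → ℤ} {h : IsCartan M A} {p : ℕ} {T : Subgroup Y} {n : I → Y}
  {X : (I → ℤ) → Subgroup Y}

theorem VJ_empty : VJ cs h X (∅ : Set I) = RGD.Sup X (RGD.Pos cs h) := by
  unfold VJ
  rw [H470.EPK.NotJ_empty]

theorem NotJ_singleton (i : I) : RGD.Pos cs h \ {sr i} = NotJ cs h ({i} : Set I) := by
  ext x
  constructor
  · rintro ⟨⟨h1, h2⟩, h3⟩
    rcases mem_PosJ_or_NotJ ({i} : Set I) h1 h2 with h4 | h4
    · exfalso
      apply h3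
      have h5 : x ∈ ({sr i} : Set (I → ℤ)) := by
        obtain ⟨k, hk, hk0⟩ := exists_coeff h1 h2 (i := i) (fun e => h3 e)
        exfalso
        exact hk0.ne' (h4.2.2 k (fun e => hk e))
      exact h5
    · exact h4
  · rintro ⟨h1, h2, k, hk, hk0⟩
    refine ⟨⟨h1, h2⟩, fun e => ?_⟩
    rw [Set.mem_singleton_iff] at e
    rw [e, sr_ne (by rintro rfl; exact hk rfl)] at hk0
    exact lt_irrefl _ hk0

section

variable (R : RGD cs h p T n X)

include R

theorem desc_rgd [Finite W] {J : Set I} {g : Y} (hg : g ∈ PJ cs h T X J) (hgB : g ∉ RGD.B cs h T X) :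
    ∃ i ∈ J, ∀ u ∈ RGD.Sup X (RGD.Pos cs h), g⁻¹ * u * g ∈ RGD.B cs h T X → u ∈ VJ cs h X {i} := by
  obtain ⟨w, hwJ, b₁, hb₁, k, hk, b₂, hb₂, rfl⟩ := (mem_PJ_iff_cell R).1 hg
  have hw : w⁻¹ ≠ 1 := by
    intro h1
    apply hgB
    rw [inv_eq_one] at h1
    rw [h1] at hk
    exact mul_mem (mul_mem hb₁ (RGD.T_le_B hk.mem_of_one)) hb₂
  obtain ⟨i, hi⟩ := cs.exists_rightDescent_of_ne_one hw
  have h3 : rep cs h w⁻¹ (sr i) ≤ 0 := (lt_iff cs h _ i).1 hi
  have hiJ : i ∈ J := by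
    by_contra hiJ
    have h4 := (NotJ.act (h := h) (inv_mem hwJ) (sr_mem_NotJ hiJ)).2.1
    exact ((isRoot_sr cs h i).act w⁻¹).not_pos_neg h4 h3
  refine ⟨i, hiJ, fun u hu h1 => ?_⟩
  have h2 : b₁⁻¹ * u * b₁ ∈ RGD.Sup X (RGD.Pos cs h) := by
    have h4 : b₁⁻¹ ∈ Subgroup.normalizer (RGD.Sup X (RGD.Pos cs h) : Set Y) := by
      have h5 := KFacts.RgdEx.normalizer_U R
      have h6 : b₁⁻¹ ∈ Subgroup.normalizer (RGD.Sup X (RGD.Pos cs h) : Set Y) ⊓ GG cs h T X := by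
        rw [h5]; exact inv_mem hb₁
      exact h6.1
    have := (Subgroup.mem_normalizer_iff.1 h4 u).1 hu
    rwa [inv_inv] at this
  have h4 : k⁻¹ * (b₁⁻¹ * u * b₁) * k ∈ RGD.B cs h T X := by
    have e1 : k⁻¹ * (b₁⁻¹ * u * b₁) * k = b₂ * ((b₁ * k * b₂)⁻¹ * u * (b₁ * k * b₂)) * b₂⁻¹ := by group
    rw [e1]
    exact mul_mem (mul_mem hb₂ h1) (inv_mem hb₂)
  have h5 := mem_PW_of_conj R hk h2 h4
  have h6 : RGD.Sup X (PW cs h w⁻¹) ≤ VJ cs h X {i} := by
    unfold VJ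
    rw [← NotJ_singleton]
    refine RGD.Sup_mono ?_
    rintro x ⟨h7, h8, h9⟩
    refine ⟨⟨h7, h8⟩, fun e => ?_⟩
    rw [Set.mem_singleton_iff] at e
    rw [e] at h9
    exact ((isRoot_sr cs h i).act w⁻¹).not_pos_neg h9 h3
  have h7 := (Subgroup.mem_normalizer_iff.1 (PJ_le_normalizer_VJ R {i} (B_le_PJ hb₁)) _).1 (h6 h5)
  have e1 : b₁ * (b₁⁻¹ * u * b₁) * b₁⁻¹ = u := by group
  rwa [e1] at h7

theorem trans_rgd [Finite W] {j : I} {x y : Y} (hx : x ∈ PJ cs h T X {j}) (hxB : x ∉ RGD.B cs h T X)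
    (hy : y ∈ PJ cs h T X {j}) (hyB : y ∉ RGD.B cs h T X) :
    ∃ u ∈ RGD.Sup X (RGD.Pos cs h), y⁻¹ * u * x ∈ RGD.B cs h T X := by
  -- every element of `P_j - B` is `u n_j b` with `u ∈ U`
  have key : ∀ z ∈ PJ cs h T X {j}, z ∉ RGD.B cs h T X → ∃ u ∈ RGD.Sup X (RGD.Pos cs h), ∃ b ∈ RGD.B cs h T X,
      z = u * n j * b := by
    intro z hz hzB
    obtain ⟨w, hwJ, b₁, hb₁, k, hk, b₂, hb₂, rfl⟩ := (mem_PJ_iff_cell R).1 hz
    rcases KFacts.RgdDiag.mem_WJ_singleton hwJ with h1 | h1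
    · exfalso
      apply hzB
      rw [h1] at hk
      exact mul_mem (mul_mem hb₁ (RGD.T_le_B hk.mem_of_one)) hb₂
    · rw [h1] at hk
      obtain ⟨t, ht, u, hu, rfl⟩ := R.mem_B.1 hb₁
      have h2 : t * u * t⁻¹ ∈ RGD.Sup X (RGD.Pos cs h) :=
        (Subgroup.mem_normalizer_iff.1 (R.T_le_normalizer_U ht) u).1 hu
      have h3 : (n j)⁻¹ * (t * k) ∈ T := by
        have h4 : Rp cs R.nsys (cs.simple j) (t * k) := by
          have := (rp_of_mem (cs := cs) (hN := R.nsys) ht).mul hk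
          rwa [one_mul] at this
        have h5 := (rp_simple cs R.nsys j).inv.mul h4
        rw [inv_mul_cancel] at h5
        exact h5.mem_of_one
      refine ⟨t * u * t⁻¹, h2, (n j)⁻¹ * (t * k) * b₂, mul_mem (RGD.T_le_B h3) hb₂, ?_⟩
      group
  obtain ⟨u, hu, b, hb, rfl⟩ := key x hx hxB
  obtain ⟨u', hu', b', hb', rfl⟩ := key y hy hyB
  refine ⟨u' * u⁻¹, mul_mem hu' (inv_mem hu), ?_⟩
  have e1 : (u' * n j * b')⁻¹ * (u' * u⁻¹) * (u * n j * b) = b'⁻¹ * b := by group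
  rw [e1]
  exact mul_mem (inv_mem hb') hb

theorem relIndex_VJ [Finite W] [Finite Y] (i : I) :
    (VJ cs h X {i}).relIndex (RGD.Sup X (RGD.Pos cs h)) = Nat.card (X (sr i)) := by
  have h1 : VJ cs h X {i} ≤ RGD.Sup X (RGD.Pos cs h) := VJ_le_U _
  have h2 : X (sr i) ⊓ VJ cs h X {i} = ⊥ := by
    have h3 := UJ_inf_VJ R {i}
    rwa [KFacts.RgdDiag.UJ_singleton] at h3
  have hc : Nat.card (X (sr i)) * Nat.card (VJ cs h X {i}) = Nat.card (RGD.Sup X (RGD.Pos cs h)) := by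
    have e : Function.Bijective (fun z : X (sr i) × VJ cs h X {i} =>
        (⟨(z.1 : Y) * z.2, mul_mem (RGD.le_Sup (S := RGD.Pos cs h) ⟨isRoot_sr cs h i, sr_nonneg i⟩ z.1.2) (h1 z.2.2)⟩ :
          RGD.Sup X (RGD.Pos cs h))) := by
      constructor
      · rintro ⟨a, b⟩ ⟨a', b'⟩ hab
        have h3 : (a : Y) * b = a' * b' := Subtype.ext_iff.1 hab
        have h4 : (a' : Y)⁻¹ * a = b' * (b : Y)⁻¹ := by
          rw [eq_mul_inv_iff_mul_eq, mul_assoc, h3, inv_mul_cancel_left]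
        have h5 : (a' : Y)⁻¹ * a ∈ X (sr i) ⊓ VJ cs h X {i} :=
          Subgroup.mem_inf.2 ⟨mul_mem (inv_mem a'.2) a.2, by rw [h4]; exact mul_mem b'.2 (inv_mem b.2)⟩
        rw [h2, Subgroup.mem_bot] at h5
        have h6 : a = a' := Subtype.ext (inv_mul_eq_one.1 h5).symm
        subst h6
        have h7 : b = b' := Subtype.ext (mul_left_cancel h3)
        rw [h7]
      · rintro ⟨u, hu⟩
        obtain ⟨a, ha, b, hb, rfl⟩ := (mem_U_iff R (J := {i})).1 hu
        rw [KFacts.RgdDiag.UJ_singleton] at ha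
        exact ⟨(⟨a, ha⟩, ⟨b, hb⟩), rfl⟩
    rw [← Nat.card_prod]
    exact Nat.card_congr (Equiv.ofBijective _ e)
  have h3 := Subgroup.relIndex_mul_relIndex ⊥ (VJ cs h X {i}) (RGD.Sup X (RGD.Pos cs h)) bot_le h1
  rw [Subgroup.relIndex_bot_left, Subgroup.relIndex_bot_left, ← hc, mul_comm] at h3
  exact Nat.eq_of_mul_eq_mul_right Nat.card_pos h3

/-- **the rank one facts of a root group datum** -/
theorem rk_ofRGD [Finite W] [Finite Y] [Fact p.Prime] (hBT : BT cs h p T X) (hG : GG cs h T X = ⊤)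
    (hX : RGD.Sup X {x | IsRoot cs h x} = ⊤) (hconn : Conn M) : Rk (ofRGD R hBT hG hX hconn) where
  desc {J g} hg hgB := by
    have hgB' : g ∉ PJ cs h T X ∅ := hgB
    rw [PJ_empty R] at hgB'
    obtain ⟨i, hi, h1⟩ := desc_rgd R hg hgB'
    refine ⟨i, hi, fun u hu h2 => ?_⟩
    have hu' : u ∈ VJ cs h X ∅ := hu
    have h2' : g⁻¹ * u * g ∈ PJ cs h T X ∅ := h2
    rw [VJ_empty] at hu'
    rw [PJ_empty R] at h2'
    exact h1 u hu' h2'
  trans {j x y} hx hxB hy hyB := by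
    have hxB' : x ∉ PJ cs h T X ∅ := hxB
    have hyB' : y ∉ PJ cs h T X ∅ := hyB
    rw [PJ_empty R] at hxB' hyB'
    obtain ⟨u, hu, h1⟩ := trans_rgd R hx hxB' hy hyB'
    refine ⟨u, ?_, ?_⟩
    · show u ∈ VJ cs h X ∅
      rw [VJ_empty]
      exact hu
    · show _ ∈ PJ cs h T X ∅
      rw [PJ_empty R]
      exact h1
  ne j := by
    intro e
    have e' : VJ cs h X {j} = VJ cs h X ∅ := e
    rw [VJ_empty] at e'
    have h1 := relIndex_VJ R j
    rw [e', Subgroup.relIndex_self] at h1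
    have h2 := X_ne_bot R (isRoot_sr cs h j)
    exact h2 (Subgroup.card_eq_one.1 h1.symm)

theorem relIndex_ofRGD [Finite W] [Finite Y] [Fact p.Prime] (hBT : BT cs h p T X) (hG : GG cs h T X = ⊤)
    (hX : RGD.Sup X {x | IsRoot cs h x} = ⊤) (hconn : Conn M) (i : I) :
    ((ofRGD R hBT hG hX hconn).V {i}).relIndex ((ofRGD R hBT hG hX hconn).V ∅) = Nat.card (X (sr i)) := by
  show (VJ cs h X {i}).relIndex (VJ cs h X ∅) = _
  rw [VJ_empty]
  exact relIndex_VJ R i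

end

end RGD

/-! ### Rank one facts in `N ≅ Y^k` -/

section N

variable {G Y : Type*} [Group G] [Finite G] [Group Y] [Finite Y] {H N : Subgroup G} {k : ℕ}
  (e : N ≃* (Fin k → Y)) {p : ℕ} {I : Type*} {S : PSys Y p I} (hS : Rk S)

/-- the type consisting of the node `j` of the `i`-th factor -/
def sgl (i : Fin k) (j : I) : Fin k → Set I := fun i' => {j' | i' = i ∧ j' = j}

theorem sgl_same (i : Fin k) (j : I) : sgl i j i = {j} := by
  ext x
  simp [sgl]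

theorem sgl_ne {i i' : Fin k} (h : i' ≠ i) (j : I) : sgl i j i' = (∅ : Set I) := by
  ext x
  simp [sgl, h]

theorem sgl_le_iff {i : Fin k} {j : I} {K : Fin k → Set I} : (∀ i', sgl i j i' ⊆ K i') ↔ j ∈ K i := by
  constructor
  · intro h
    apply h i
    rw [sgl_same]; rfl
  · intro h i'
    by_cases hi : i' = i
    · subst hi
      rw [sgl_same]
      simpa using h
    · rw [sgl_ne hi]
      exact Set.empty_subset _

include hS

theorem PP_desc {K : Fin k → Set I} {g : G} (hg : g ∈ PP e S K) (hgB : g ∉ PP e S fun _ => ∅) :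
    ∃ i, ∃ j ∈ K i, ∀ u ∈ VV e S (fun _ => ∅), g⁻¹ * u * g ∈ PP e S (fun _ => ∅) → u ∈ VV e S (sgl i j) := by
  have hgN := PP_le e S _ hg
  have hg' := (mem_pk e).1 hg
  obtain ⟨i, hi⟩ : ∃ i, cp e g i ∉ S.P ∅ := by
    by_contra hcon
    push Not at hcon
    exact hgB ((mem_pk e).2 ⟨hgN, hcon⟩)
  obtain ⟨j, hj, h1⟩ := hS.desc (hg'.2 i) hi
  refine ⟨i, j, hj, fun u hu h2 => ?_⟩
  have hu' := (mem_pk e).1 hu
  refine (mem_pk e).2 ⟨hu'.1, fun i' => ?_⟩
  by_cases hi' : i' = i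
  · subst hi'
    rw [sgl_same]
    apply h1 _ (hu'.2 i')
    have h3 := ((mem_pk e).1 h2).2 i'
    rwa [cp_mul e (mul_mem (inv_mem hgN) hu'.1) hgN, cp_mul e (inv_mem hgN) hu'.1, cp_inv e hgN] at h3
  · rw [sgl_ne hi']
    exact hu'.2 i'

theorem PP_trans {i : Fin k} {j : I} {x y : G} (hx : x ∈ PP e S (sgl i j)) (hxB : x ∉ PP e S fun _ => ∅)
    (hy : y ∈ PP e S (sgl i j)) (hyB : y ∉ PP e S fun _ => ∅) :
    ∃ u ∈ VV e S (fun _ => ∅), y⁻¹ * u * x ∈ PP e S (fun _ => ∅) := by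
  have key : ∀ z ∈ PP e S (sgl i j), z ∉ PP e S (fun _ => ∅) → cp e z i ∈ S.P {j} ∧ cp e z i ∉ S.P ∅ ∧
      ∀ i', i' ≠ i → cp e z i' ∈ S.P ∅ := by
    intro z hz hzB
    have hz' := (mem_pk e).1 hz
    have h1 : ∀ i', i' ≠ i → cp e z i' ∈ S.P ∅ := fun i' hi' => by
      have := hz'.2 i'
      rwa [sgl_ne hi'] at this
    refine ⟨by have := hz'.2 i; rwa [sgl_same] at this, fun h2 => hzB ((mem_pk e).2 ⟨hz'.1, fun i' => ?_⟩), h1⟩
    by_cases hi' : i' = i
    · subst hi'; exact h2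
    · exact h1 i' hi'
  obtain ⟨hx1, hx2, hx3⟩ := key x hx hxB
  obtain ⟨hy1, hy2, hy3⟩ := key y hy hyB
  obtain ⟨u, hu, h1⟩ := hS.trans hx1 hx2 hy1 hy2
  have hxN := PP_le e S _ hx
  have hyN := PP_le e S _ hy
  refine ⟨sg e i u, (sg_mem_pk e).2 hu, (mem_pk e).2 ⟨mul_mem (mul_mem (inv_mem hyN) (sg_mem e i u)) hxN, fun i' => ?_⟩⟩
  rw [cp_mul e (mul_mem (inv_mem hyN) (sg_mem e i u)) hxN, cp_mul e (inv_mem hyN) (sg_mem e i u), cp_inv e hyN]
  by_cases hi' : i' = i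
  · subst hi'
    rwa [cp_sg]
  · rw [cp_sg_ne e hi', mul_one]
    exact mul_mem (inv_mem (hy3 i' hi')) (hx3 i' hi')

/-- the stabiliser in `U` of a chamber of a panel -/
theorem PP_stab {i : Fin k} {j : I} {x : G} (hx : x ∈ PP e S (sgl i j)) (hxB : x ∉ PP e S fun _ => ∅) {u : G}
    (hu : u ∈ VV e S fun _ => ∅) : x⁻¹ * u * x ∈ PP e S (fun _ => ∅) ↔ u ∈ VV e S (sgl i j) := by
  constructor
  · intro h1
    obtain ⟨i', j', hj', h2⟩ := PP_desc e hS hx hxB
    have h3 : i' = i ∧ j' = j := hj'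
    rw [← h3.1, ← h3.2]
    exact h2 u hu h1
  · intro h1
    have h2 := PP_nm e S (inv_mem hx) h1
    rw [inv_inv] at h2
    exact VV_le_PP' e S _ _ h2

theorem exists_not_mem {i : Fin k} {j : I} : ∃ x ∈ PP e S (sgl i j), x ∉ PP e S fun _ => ∅ := by
  by_contra hcon
  push Not at hcon
  have h1 := (PP_le_iff e S).1 hcon
  exact (sgl_le_iff.1 h1).elim

/-- the number of chambers of a panel -/
theorem PP_index (i : Fin k) (j : I) :
    (PP e S fun _ => ∅).relIndex (PP e S (sgl i j)) = 1 + (VV e S (sgl i j)).relIndex (VV e S fun _ => ∅) := by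
  obtain ⟨x, hx, hxB⟩ := exists_not_mem e hS (i := i) (j := j)
  have h0 : PP e S (fun _ => ∅) ≤ PP e S (sgl i j) := (PP_le_iff e S).2 fun _ => Set.empty_subset _
  refine index_two ((VV_le_PP e S _).trans h0) hx hxB (VV_le_PP e S _) (fun y hy hyB => ?_) (fun u hu => PP_stab e hS hx hxB hu)
  exact PP_trans e hS hx hxB hy hyB

omit hS in
/-- back to `Y` -/
theorem VV_index (i : Fin k) (j : I) :
    (VV e S (sgl i j)).relIndex (VV e S fun _ => ∅) = (S.V {j}).relIndex (S.V ∅) := by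
  let f : N →* Y := (Pi.evalMonoidHom (fun _ => Y) i).comp e.toMonoidHom
  have hf : ∀ x : N, f x = cp e (x : G) i := fun x => by rw [cp_eq e x.2]; rfl
  have h1 : ((VV e S fun _ => ∅).subgroupOf N).map f = S.V ∅ := by
    apply le_antisymm
    · rintro _ ⟨x, hx, rfl⟩
      rw [hf]
      exact ((mem_pk e).1 hx).2 i
    · intro t ht
      refine ⟨⟨sg e i t, sg_mem e i t⟩, (sg_mem_pk e).2 ht, ?_⟩
      rw [hf, cp_sg]
  have h2 := Subgroup.relIndex_comap (S.V {j}) f ((VV e S fun _ => ∅).subgroupOf N)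
  rw [h1] at h2
  rw [← h2]
  have h3 : ∀ A B : Subgroup G, B ≤ N → (A.subgroupOf N).relIndex (B.subgroupOf N) = A.relIndex B := by
    intro A B hB
    rw [Subgroup.relIndex_subgroupOf hB]
  rw [← h3 _ _ (VV_le e S _)]
  have h4 : ∀ A A' B : Subgroup N, A ⊓ B = A' ⊓ B → A.relIndex B = A'.relIndex B := by
    intro A A' B h
    rw [← Subgroup.inf_relIndex_right A, h, Subgroup.inf_relIndex_right]
  apply h4
  ext x
  constructor
  · rintro ⟨h5, h6⟩
    refine ⟨?_, h6⟩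
    show f x ∈ S.V {j}
    rw [hf]
    have := ((mem_pk e).1 h5).2 i
    rwa [sgl_same] at this
  · rintro ⟨h5, h6⟩
    have h5' : f x ∈ S.V {j} := h5
    rw [hf] at h5'
    refine ⟨(mem_pk e).2 ⟨x.2, fun i' => ?_⟩, h6⟩
    by_cases hi' : i' = i
    · subst hi'
      rw [sgl_same]; exact h5'
    · rw [sgl_ne hi']
      exact ((mem_pk e).1 h6).2 i'

end N

end Cfsg.Agent.H737.EPO
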