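import Cfsg.Agent.H737.EPO.HSide
import Cfsg.Agent.H284.EPO.Chambers

/-!
# S5745 / S3499, OWN characteristic: from the `H`-side to helper284's `PanelB` (helper737)
-/

set_option autoImplicit false
set_option linter.unusedSectionVars false

namespace Cfsg.Agent.H737.EPO

open Cfsg.Agent.H284 Cfsg.Agent.H209.EPX
open scoped Pointwise

section

variable {G Y : Type*} [Group G] [Finite G] [Group Y] [Finite Y] {H N M M' R D : Subgroup G} {k : ℕ}
  (e : N ≃* (Fin k → Y)) {p : ℕ} {I : Type*} (S : PSys Y p I)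

/-- two point stabilisers are core free maximal subgroups -/
theorem mx_of_two (h : EP H) (hN : MinN N H) (hM : M ∈ EP.twoSet H) : MX H N M := by
  obtain ⟨x, hx, rfl⟩ := hM
  refine ⟨inf_le_left, fun L h1 h2 => h.two x hx L h1 h2, fun h1 => hN.ne (h.F1 hN.le hN.nrm hx (h1.trans inf_le_right))⟩

/-- changing the coordinates by an inner automorphism of `N` -/
def chg {N : Subgroup G} (e : N ≃* (Fin k → Y)) (n : N) : N ≃* (Fin k → Y) := (MulAut.conj n⁻¹).trans e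

theorem pk_chg (n : N) (F : Fin k → Subgroup Y) : pk (chg e n) F = cj (n : G) (pk e F) := by
  rw [cj_pk e n.2]
  ext x
  rw [mem_pk, mem_pk]
  refine and_congr_right fun hx => forall_congr' fun i => ?_
  rw [mem_cj]
  have h1 : cp (chg e n) x i = (cp e (n : G) i)⁻¹ * cp e x i * cp e (n : G) i := by
    rw [cp_eq (chg e n) hx]
    show e (n⁻¹ * ⟨x, hx⟩ * n⁻¹⁻¹) i = _
    rw [inv_inv, map_mul, map_mul, map_inv, Pi.mul_apply, Pi.mul_apply, Pi.inv_apply, cp_eq e n.2, cp_eq e hx]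
  rw [h1]

/-- `R` is a Sylow `p`-subgroup of `H` -/
structure SylIn (H R : Subgroup G) (p : ℕ) : Prop where
  le : R ≤ H
  pg : IsPGroup p R
  mx : ∀ Q : Subgroup G, Q ≤ H → IsPGroup p Q → R ≤ Q → Q = R

theorem SylIn.conj [Fact p.Prime] (hR : SylIn H R p) {K : Subgroup G} (hK : K ≤ H) (hKp : IsPGroup p K) :
    ∃ n ∈ H, K ≤ cj n R := by
  let Us : Sylow p H :=
    { R.subgroupOf H with
      isPGroup' := hR.pg.comap_subtype
      is_maximal' := by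
        intro Q hQ hle
        have h1 : Q.map H.subtype = R := by
          apply hR.mx
          · rintro _ ⟨y, _, rfl⟩; exact y.2
          · exact hQ.map _
          · intro x hx
            exact ⟨⟨x, hR.le hx⟩, hle hx, rfl⟩
        ext y
        constructor
        · intro hy
          have h2 : (y : G) ∈ Q.map H.subtype := ⟨y, hy, rfl⟩
          rw [h1] at h2
          exact h2
        · intro hy
          exact hle hy }
  obtain ⟨Q, hQ⟩ := (hKp.comap_subtype (K := H)).exists_le_sylow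
  obtain ⟨g, hg⟩ := MulAction.exists_smul_eq H Us Q
  refine ⟨g, g.2, fun x hx => ?_⟩
  have h1 : (⟨x, hK hx⟩ : H) ∈ (Q : Subgroup H) := hQ hx
  rw [← hg] at h1
  rw [mem_cj]
  have h2 : (⟨x, hK hx⟩ : H) ∈ MulAut.conj g • (Us : Subgroup H) := h1
  rw [Subgroup.mem_pointwise_smul_iff_inv_smul_mem] at h2
  have h3 : (g⁻¹ * ⟨x, hK hx⟩ * g : H) ∈ (Us : Subgroup H) := by
    have : (MulAut.conj g)⁻¹ • (⟨x, hK hx⟩ : H) = g⁻¹ * ⟨x, hK hx⟩ * g := by
      rw [← map_inv, MulAut.smul_def, MulAut.conj_apply, inv_inv]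
    rwa [this] at h2
  exact h3

theorem exists_sylIn [Fact p.Prime] {K : Subgroup G} (hK : K ≤ H) (hKp : IsPGroup p K) : ∃ R, K ≤ R ∧ SylIn H R p := by
  obtain ⟨Q, hQ⟩ := (hKp.comap_subtype (K := H)).exists_le_sylow
  refine ⟨(Q : Subgroup H).map H.subtype, ?_, ?_, Q.isPGroup'.map _, ?_⟩
  · intro x hx
    exact ⟨⟨x, hK hx⟩, hQ hx, rfl⟩
  · rintro _ ⟨y, _, rfl⟩
    exact y.2
  · intro P hPH hP hle
    have h1 : P.subgroupOf H = Q := Q.is_maximal' hP.comap_subtype (fun y hy => hle ⟨y, hy, rfl⟩)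
    rw [← h1, Subgroup.subgroupOf_map_subtype, inf_eq_left.2 hPH]

/-- **standardisation**: after a change of coordinates `R ∩ N = U` -/
theorem exists_std [Fact p.Prime] (e : N ≃* (Fin k → Y)) (hN : ∀ g ∈ H, ∀ n ∈ N, g * n * g⁻¹ ∈ N) (hNH : N ≤ H) (hR : SylIn H R p) :
    ∃ e' : N ≃* (Fin k → Y), R ⊓ N = VV e' S fun _ => ∅ := by
  have hUN := VV_le e S (fun _ => ∅)
  obtain ⟨n, hn, h1⟩ := syl e S (K := R ⊓ N) inf_le_right (hR.pg.to_le inf_le_left)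
  refine ⟨chg e ⟨n, hn⟩, ?_⟩
  have e1 : VV (chg e ⟨n, hn⟩) S (fun _ => ∅) = cj n (VV e S fun _ => ∅) := pk_chg e ⟨n, hn⟩ _
  rw [e1]
  apply Subgroup.eq_of_le_of_card_ge h1
  obtain ⟨x, hx, h2⟩ := hR.conj (hUN.trans hNH) (VV_isPGroup e S _)
  have h3 : cj x⁻¹ (VV e S fun _ => ∅) ≤ R ⊓ N := by
    apply le_inf
    · rw [cj_le_iff, inv_inv]
      exact h2
    · rintro _ ⟨y, hy, rfl⟩
      exact hN x⁻¹ (inv_mem hx) y (hUN hy)
  have h4 := Subgroup.card_le_of_le h3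
  rwa [card_cj] at h4 ⊢

theorem R_le_BH (hN : ∀ g ∈ H, ∀ n ∈ N, g * n * g⁻¹ ∈ N) (hRN : R ⊓ N = VV e S fun _ => ∅) {g : G}
    (hg : g ∈ H) (hgR : ∀ r ∈ R, g * r * g⁻¹ ∈ R) : g ∈ BH H e S := by
  rw [mem_BH]
  refine ⟨hg, cj_eq_of_nm fun a ha => ?_⟩
  rw [← hRN] at ha ⊢
  exact ⟨hgR a ha.1, hN g hg a ha.2⟩

variable [Fact p.Prime] [IsSimpleGroup Y] (hY : ∃ a b : Y, a * b ≠ b * a)

include hY

/-- **`PanelB` from the `H`-side**, `P = P_K(H)`, `K` invariant, `uniq` as hypothesis -/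
theorem panelB_of [Nonempty I] (h : EP H) (hN : MinN N H) (hR : SylIn H R p)
    (hRN : R ⊓ N = VV e S fun _ => ∅) (hM : M ∈ EP.twoSet H) (hRM : R ≤ M)
    {K : Fin k → Set I} (hK : Inv H e S K) (hK1 : ∀ i, K i ≠ Set.univ)
    (hDR : D ≤ R) (hVD : VV e S K ≤ D) (hDn : ∀ g ∈ PH H e S K, ∀ d ∈ D, g * d * g⁻¹ ∈ D)
    (hPM : ¬ PH H e S K ≤ M)
    (hun : ∀ M' ∈ EP.twoSet H, R ≤ M' → ¬ PH H e S K ≤ M' → M' = M) : PanelB H R (PH H e S K) D M p where
  ep := h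
  hp := Fact.out
  RH := hR.le
  Rp := hR.pg
  Rsyl := hR.mx
  tits M' hM' hRM' g hg hgR := by
    obtain ⟨L, -, -, -, -, h1⟩ := std e S hY hN (mx_of_two h hN hM') (by rw [← hRN]; exact inf_le_left.trans hRM')
    exact h1 (R_le_BH e S hN.nrm hRN hg hgR)
  PH := inf_le_left
  NR g hg hgR := BH_le_PH e S hK (R_le_BH e S hN.nrm hRN hg hgR)
  M2 := hM
  RM := hRM
  PM := hPM
  uniq := hun
  DR := hDR
  Dn := hDn
  par M' hM' hDM' := by
    obtain ⟨a, ha, h1, -⟩ := par e S hY hN hK1 (mx_of_two h hN hM') (hVD.trans hDM')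
    refine ⟨a, PP_le_PH e S hN.le K ha, le_trans ?_ h1⟩
    intro r hr
    exact R_le_BH e S hN.nrm hRN (hR.le hr) fun s hs => mul_mem (mul_mem hr hs) (inv_mem hr)

/-- **`PanelB` from the `H`-side**, `P = P_{Lᶜ}(H)`, `L` the type of `M` -/
theorem panelB [Nonempty I] (h : EP H) (hN : MinN N H) (hR : SylIn H R p)
    (hRN : R ⊓ N = VV e S fun _ => ∅) (hM : M ∈ EP.twoSet H) (hRM : R ≤ M)
    {L : Fin k → Set I} (hL : Inv H e S L) (hL1 : ∀ i, L i ≠ Set.univ) (hML : M = PH H e S L)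
    {i₀ : Fin k} (hi₀ : L i₀ ≠ ∅)
    (hDR : D ≤ R) (hVD : VV e S (fun i => (L i)ᶜ) ≤ D)
    (hDn : ∀ g ∈ PH H e S (fun i => (L i)ᶜ), ∀ d ∈ D, g * d * g⁻¹ ∈ D) :
    PanelB H R (PH H e S fun i => (L i)ᶜ) D M p := by
  have hLc := Inv.compl e S hN.nrm hL
  have hK1 : ∀ i, (L i)ᶜ ≠ Set.univ := inv_ne_univ e S hY hN hLc (i := i₀) (by
    rw [Ne, Set.compl_univ_iff]
    exact hi₀)
  refine panelB_of e S hY h hN hR hRN hM hRM hLc hK1 hDR hVD hDn ?_ fun M' hM' hRM' hP =>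
    uniq e S hY hN (mx_of_two h hN hM) hL hML (mx_of_two h hN hM') (by rw [← hRN]; exact inf_le_left.trans hRM') hP
  rw [hML, PH_le_iff e S hN.nrm hN.le hL]
  intro h1
  apply hL1 i₀
  rw [Set.eq_univ_iff_forall]
  intro a
  by_contra ha
  exact ha (h1 i₀ ha)

end

end Cfsg.Agent.H737.EPO
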