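import Cfsg.Agent.H737.EPO.Res
import Cfsg.Agent.H284.EPO.PanelEnd

/-!
# S5745 / S3499, OWN characteristic: the end of case (B) (helper737)

`P = P_K(H)`, `M = P_L(H)`. Every node `j ∈ K - L` has a panel with 3 chambers, there is only one such node, and
`1 + |P_J : P_J ∩ M|` is a power of 2 for all `J ⊆ K`.
-/

set_option autoImplicit false
set_option linter.unusedSectionVars false

namespace Cfsg.Agent.H737.EPO

open Cfsg.Agent.H284 Cfsg.Agent.H209.EPX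
open scoped Pointwise

section

variable {G Y : Type*} [Group G] [Finite G] [Group Y] [Finite Y] {H N M R D W : Subgroup G} {k : ℕ}
  (e : N ≃* (Fin k → Y)) {p : ℕ} {I : Type*} {S : PSys Y p I} (hS : Rk S) [Fact p.Prime]
  (hN : ∀ g ∈ H, ∀ n ∈ N, g * n * g⁻¹ ∈ N) (hNH : N ≤ H) {L K : Fin k → Set I} (hL : Inv H e S L)
  (hML : M = PH H e S L) (hRN : R ⊓ N = VV e S fun _ => ∅)

include hN hNH hL hML

/-- the chambers of a residue -/
theorem residue_iff {J : Fin k → Set I} {g : G} (hg : g ∈ PH H e S K) :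
    VV e S J ≤ cj g M ↔ ∃ x ∈ PP e S J, x⁻¹ * g ∈ M := by
  constructor
  · intro h1
    obtain ⟨a, ha, b, hb, rfl⟩ := mem_PH_fac e S hN hNH hg
    have hbM : b ∈ M := by rw [hML]; exact BH_le_PH e S hL hb
    rw [cj_mul, cj_eq_self hbM] at h1
    have haN := PP_le e S _ ha
    have h2 : VV e S J ≤ cj a (PP e S L) := by
      rw [← PH_inf e S hNH L, ← hML, cj_inf]
      refine le_inf h1 ?_
      rw [cj_eq_self haN]
      exact VV_le e S J
    obtain ⟨x, hx, y, hy, rfl⟩ := PP_dec e S haN h2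
    refine ⟨x, hx, ?_⟩
    have e1 : x⁻¹ * (x * y * b) = y * b := by group
    rw [e1]
    exact mul_mem (by rw [hML]; exact PP_le_PH e S hNH L hy) hbM
  · rintro ⟨x, hx, h1⟩
    have e1 : g = x * (x⁻¹ * g) := by group
    rw [e1, cj_mul, cj_eq_self h1]
    have h2 : cj x (VV e S J) = VV e S J := cj_eq_of_nm fun a ha => PP_nm e S hx ha
    rw [← h2]
    apply cj_mono
    rw [hML]
    exact (VV_le_PP' e S J L).trans (PP_le_PH e S hNH L)

theorem M_relIndex (J : Fin k → Set I) :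
    M.relIndex (PP e S J) = (PP e S fun i => L i ∩ J i).relIndex (PP e S J) := by
  rw [← Subgroup.inf_relIndex_right M]
  congr 1
  rw [← PP_inf, ← PH_inf e S hNH L, ← hML]
  ext x
  constructor
  · rintro ⟨h1, h2⟩
    exact ⟨⟨h1, PP_le e S J h2⟩, h2⟩
  · rintro ⟨⟨h1, -⟩, h2⟩
    exact ⟨h1, h2⟩

variable (c : PanelB H R (PH H e S K) D M p) (v : VecB H (PH H e S K) D W p) (hW : W ≠ D)

include c

theorem PP_le_P {J : Fin k → Set I} (hJK : ∀ i, J i ⊆ K i) : PP e S J ≤ PH H e S K :=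
  ((PP_le_iff e S).2 hJK).trans (PP_le_PH e S hNH K)

include hS hW

/-- **a node of `K - L`: the panel has 3 chambers** -/
theorem node_two {i : Fin k} {j : I} (hjK : j ∈ K i) (hjL : j ∉ L i) :
    p = 2 ∧ (VV e S (sgl i j)).relIndex (VV e S fun _ => ∅) = 2 ∧ Nat.card (v.fix c.Dn (VV e S (sgl i j))) = 4 ∧
      Nat.card (v.fix c.Dn R) = 2 := by
  have hJK : ∀ i', sgl i j i' ⊆ K i' := sgl_le_iff.2 hjK
  have hPj := PP_le_P e hN hNH hL hML c hJK
  have hLJ : (fun i' => L i' ∩ sgl i j i') = fun _ => ∅ := by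
    funext i'
    by_cases hi' : i' = i
    · subst hi'
      rw [sgl_same, Set.inter_singleton_eq_empty]
      exact hjL
    · rw [sgl_ne hi', Set.inter_empty]
  have hne : VV e S (sgl i j) ≠ VV e S fun _ => ∅ := by
    intro e1
    apply hS.ne j
    apply le_antisymm (S.V_le_U _)
    intro t ht
    have h1 : sg e i t ∈ VV e S (sgl i j) := by
      rw [e1]; exact (sg_mem_pk e).2 ht
    have h2 := (sg_mem_pk e).1 h1
    rwa [sgl_same] at h2
  obtain ⟨a, ha, hidx⟩ := p_index (VV_isPGroup e S _) (VV_le_VV e S (sgl i j)) hne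
  have hM1 : ∀ x ∈ PP e S (sgl i j), x ∉ M → x ∉ PP e S fun _ => ∅ := by
    intro x _ hxM hxB
    apply hxM
    rw [hML]
    exact PP_le_PH e S hNH L ((PP_le_iff e S).2 (fun _ => Set.empty_subset _) hxB)
  obtain ⟨h1, h2, h3, h4⟩ := c.panel_end v hW hPj ((VV_le_PP e S _).trans hPj)
    (fun g hg => residue_iff e hN hNH hL hML hg) ha (by
      rw [M_relIndex e hN hNH hL hML, hLJ, PP_index e hS, hidx, add_comm]) (by
      intro g hg g' hg' hgM hg'M
      obtain ⟨u, hu, h1⟩ := PP_trans e hS hg (hM1 g hg hgM) hg' (hM1 g' hg' hg'M)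
      have hle : PP e S (fun _ => ∅) ≤ M := by
        rw [hML]
        exact ((PP_le_iff e S).2 fun _ => Set.empty_subset _).trans (PP_le_PH e S hNH L)
      refine ⟨u, ⟨VV_le_PP' e S _ _ hu, hle (VV_le_PP e S _ hu)⟩, ?_⟩
      rw [← mul_assoc]
      exact hle h1)
  have h5 : p ^ a = 2 := by rw [h2, pow_one]; exact h1
  exact ⟨h1, hidx.trans h5, h3, h4⟩

include v

/-- the number of chambers of a residue plus 1 is a power of 2 -/
theorem residue_pow {i : Fin k} {j : I} (hjK : j ∈ K i) (hjL : j ∉ L i) {J : Fin k → Set I} (hJK : ∀ i, J i ⊆ K i) :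
    ∃ s, (PP e S fun i => L i ∩ J i).relIndex (PP e S J) + 1 = 2 ^ s := by
  obtain ⟨h1, -, -, h2⟩ := node_two e hS hN hNH hL hML c v hW hjK hjL
  have hPj := PP_le_P e hN hNH hL hML c hJK
  rw [← M_relIndex e hN hNH hL hML]
  exact c.relIndex_residue v hPj ((VV_le_PP e S _).trans hPj) (fun g hg => residue_iff e hN hNH hL hML hg) h1 h2

omit hS hW in
/-- the chamber of a nonzero vector fixed by `V_J` -/
theorem exists_ch {J : Fin k → Set I} (hJK : ∀ i, J i ⊆ K i) {z : v.Vec} (hz1 : z ≠ 1)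
    (hz : z ∈ v.fix c.Dn (VV e S J)) : ∃ x ∈ PP e S J, z ∈ v.fix c.Dn (cj x R) := by
  have hPj := PP_le_P e hN hNH hL hML c hJK
  obtain ⟨g, hg, h1⟩ := c.exists_chamber v z
  have h2 := (c.mem_fix_iff_chamber v ((VV_le_PP e S _).trans hPj) hg hz1 h1).1 hz
  obtain ⟨x, hx, h3⟩ := (residue_iff e hN hNH hL hML hg).1 h2
  exact ⟨x, hx, by rwa [c.chamber_congr v (hPj hx) hg h3]⟩

include hRN

omit hS hW in
theorem UU_le_R : VV e S (fun _ => ∅) ≤ R := by rw [← hRN]; exact inf_le_left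

omit hS hW in
theorem fixR_le (J : Fin k → Set I) : v.fix c.Dn R ≤ v.fix c.Dn (VV e S J) :=
  v.fix_anti c.Dn ((VV_le_VV e S J).trans (UU_le_R e hN hNH hL hML hRN c v))

omit hS hW in
theorem fix_of_mem_M {x : G} (hx : x ∈ PH H e S K) (hxM : x ∈ M) {z : v.Vec} (hz : z ∈ v.fix c.Dn (cj x R)) :
    z ∈ v.fix c.Dn R := by
  have h1 := c.chamber_congr v (one_mem _) hx (by rwa [inv_one, one_mul])
  rw [cj_one] at h1
  rwa [h1]

/-- **there is only one node in `K - L`** -/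
theorem node_unique {i i' : Fin k} {j j' : I} (hjK : j ∈ K i) (hjL : j ∉ L i) (hjK' : j' ∈ K i') (hjL' : j' ∉ L i') :
    i = i' ∧ j = j' := by
  classical
  by_contra hne
  obtain ⟨h2, hq, h4, hR2⟩ := node_two e hS hN hNH hL hML c v hW hjK hjL
  obtain ⟨-, hq', h4', -⟩ := node_two e hS hN hNH hL hML c v hW hjK' hjL'
  -- the rank two type
  let J2 : Fin k → Set I := fun t => sgl i j t ∪ sgl i' j' t
  have hJK : ∀ t, sgl i j t ⊆ K t := sgl_le_iff.2 hjK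
  have hJK' : ∀ t, sgl i' j' t ⊆ K t := sgl_le_iff.2 hjK'
  have hJ2K : ∀ t, J2 t ⊆ K t := fun t => Set.union_subset (hJK t) (hJK' t)
  have hdisj : ∀ t, sgl i j t ∩ sgl i' j' t = ∅ := by
    intro t
    ext s
    simp only [sgl, Set.mem_inter_iff, Set.mem_ofPred_eq, Set.mem_empty_iff_false, iff_false]
    rintro ⟨⟨h5, h6⟩, h7, h8⟩
    exact hne ⟨h5.symm.trans h7, h6.symm.trans h8⟩
  have hLJ2 : (fun t => L t ∩ J2 t) = fun _ => ∅ := by
    funext t
    ext s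
    simp only [J2, sgl, Set.mem_inter_iff, Set.mem_union, Set.mem_ofPred_eq, Set.mem_empty_iff_false, iff_false]
    rintro ⟨h5, h6 | h6⟩
    · obtain ⟨rfl, rfl⟩ := h6
      exact hjL h5
    · obtain ⟨rfl, rfl⟩ := h6
      exact hjL' h5
  have hBM : PP e S (fun _ => ∅) ≤ M := by
    rw [hML]
    exact ((PP_le_iff e S).2 fun _ => Set.empty_subset _).trans (PP_le_PH e S hNH L)
  have hMJ2 : ∀ y ∈ PP e S J2, y ∈ M → y ∈ PP e S fun _ => ∅ := by
    intro y hy hyM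
    rw [← hLJ2, ← PP_inf, ← PH_inf e S hNH L, ← hML]
    exact ⟨⟨hyM, PP_le e S _ hy⟩, hy⟩
  have hP : ∀ {J : Fin k → Set I}, (∀ t, J t ⊆ K t) → PP e S J ≤ PH H e S K := fun h =>
    PP_le_P e hN hNH hL hML c h
  have hle1 : PP e S (sgl i j) ≤ PP e S J2 := (PP_le_iff e S).2 fun t => Set.subset_union_left
  have hle2 : PP e S (sgl i' j') ≤ PP e S J2 := (PP_le_iff e S).2 fun t => Set.subset_union_right
  -- claim A
  have claimA : ∀ z, z ∈ v.fix c.Dn (VV e S (sgl i j)) → z ∈ v.fix c.Dn (VV e S (sgl i' j')) → z ∈ v.fix c.Dn R := by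
    intro z hz hz'
    by_cases hz1 : z = 1
    · rw [hz1]; exact one_mem _
    obtain ⟨x, hx, h5⟩ := exists_ch e hN hNH hL hML c v hJK hz1 hz
    obtain ⟨y, hy, h6⟩ := exists_ch e hN hNH hL hML c v hJK' hz1 hz'
    have h7 : x⁻¹ * y ∈ M := by
      by_contra h8
      have h9 := c.chamber_inf v (hP hJK hx) (hP hJK' hy) h8
      have h10 : z ∈ v.fix c.Dn (cj x R) ⊓ v.fix c.Dn (cj y R) := ⟨h5, h6⟩
      rw [h9, Subgroup.mem_bot] at h10
      exact hz1 h10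
    have h8 := hMJ2 _ (mul_mem (inv_mem (hle1 hx)) (hle2 hy)) h7
    have h9 : y ∈ PP e S (sgl i j) := by
      have e1 : y = x * (x⁻¹ * y) := by group
      rw [e1]
      exact mul_mem hx ((PP_le_iff e S).2 (fun _ => Set.empty_subset _) h8)
    have h10 : y ∈ PP e S fun _ => ∅ := by
      have h11 : y ∈ PP e S (sgl i j) ⊓ PP e S (sgl i' j') := ⟨h9, hy⟩
      rw [PP_inf] at h11
      have h12 : (fun t => sgl i j t ∩ sgl i' j' t) = fun _ => ∅ := funext hdisj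
      rwa [h12] at h11
    exact fix_of_mem_M e hN hNH hL hML hRN c v (hP hJK' hy) (hBM h10) h6
  -- elements of `U`
  have hUP : ∀ u ∈ VV e S (fun _ => ∅), u ∈ PH H e S K := fun u hu =>
    hP (J := fun _ => ∅) (fun _ => Set.empty_subset _) (VV_le_PP e S _ hu)
  -- the action of `U` on `C_V(V_j)`
  have key : ∀ (i₁ : Fin k) (j₁ : I), (∀ t, sgl i₁ j₁ t ⊆ K t) → Nat.card (v.fix c.Dn (VV e S (sgl i₁ j₁))) = 4 →
      ∀ x : v.Vec, x ∈ v.fix c.Dn (VV e S (sgl i₁ j₁)) → x ∉ v.fix c.Dn R →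
      ∀ (u : G) (hu : u ∈ VV e S fun _ => ∅), x⁻¹ * v.act c.Dn ⟨u, hUP u hu⟩ x ∈ v.fix c.Dn R := by
    intro i₁ j₁ hJ₁ hc₁ x hx hxR u hu
    have h5 : v.act c.Dn ⟨u, hUP u hu⟩ x ∈ v.fix c.Dn (VV e S (sgl i₁ j₁)) := by
      have h6 := (v.act_mem_fix c.Dn (⟨u, hUP u hu⟩ : PH H e S K)).2 hx
      have h7 : cj ((⟨u, hUP u hu⟩ : PH H e S K) : G) (VV e S (sgl i₁ j₁)) = VV e S (sgl i₁ j₁) :=
        cj_eq_of_nm fun a ha => PP_nm e S (VV_le_PP' e S _ _ hu) ha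
      rwa [h7] at h6
    have h6 : v.act c.Dn ⟨u, hUP u hu⟩ x ∉ v.fix c.Dn R := by
      intro h7
      apply hxR
      have h8 : v.act c.Dn ⟨u, hUP u hu⟩ (v.act c.Dn ⟨u, hUP u hu⟩ x) = v.act c.Dn ⟨u, hUP u hu⟩ x :=
        (v.mem_fix c.Dn).1 h7 ⟨u, hUP u hu⟩ (UU_le_R e hN hNH hL hML hRN c v hu)
      have h9 := (v.act c.Dn ⟨u, hUP u hu⟩).injective h8
      rwa [h9] at h7
    have hidx : ((v.fix c.Dn R).subgroupOf (v.fix c.Dn (VV e S (sgl i₁ j₁)))).index = 2 := by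
      have h7 := Subgroup.relIndex_mul_relIndex ⊥ (v.fix c.Dn R) (v.fix c.Dn (VV e S (sgl i₁ j₁))) bot_le
        (fixR_le e hN hNH hL hML hRN c v _)
      rw [Subgroup.relIndex_bot_left, Subgroup.relIndex_bot_left, hR2, hc₁] at h7
      have h8 : (v.fix c.Dn R).relIndex (v.fix c.Dn (VV e S (sgl i₁ j₁))) = 2 := by omega
      exact h8
    have h7 := Subgroup.mul_mem_iff_of_index_two hidx (a := ⟨x, hx⟩⁻¹) (b := ⟨_, h5⟩)
    have h8 : ((⟨x, hx⟩⁻¹ * ⟨_, h5⟩ : v.fix c.Dn (VV e S (sgl i₁ j₁))) : v.Vec) ∈ v.fix c.Dn R := by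
      have h9 := h7.2 (by
        rw [Subgroup.mem_subgroupOf, Subgroup.mem_subgroupOf]
        constructor
        · intro h10
          exact absurd ((v.fix c.Dn R).inv_mem_iff.1 h10) hxR
        · intro h10
          exact absurd h10 h6)
      exact h9
    exact h8
  -- two vectors
  have hex : ∀ (i₁ : Fin k) (j₁ : I), Nat.card (v.fix c.Dn (VV e S (sgl i₁ j₁))) = 4 →
      ∃ x, x ∈ v.fix c.Dn (VV e S (sgl i₁ j₁)) ∧ x ∉ v.fix c.Dn R := by
    intro i₁ j₁ hc₁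
    by_contra hcon
    push Not at hcon
    have h5 : v.fix c.Dn (VV e S (sgl i₁ j₁)) ≤ v.fix c.Dn R := hcon
    have h6 := Subgroup.card_le_of_le h5
    rw [hc₁, hR2] at h6
    omega
  obtain ⟨x₁, hx₁, hx₁R⟩ := hex i j h4
  obtain ⟨x₂, hx₂, hx₂R⟩ := hex i' j' h4'
  obtain ⟨r, hr, hr1⟩ : ∃ r, r ∈ v.fix c.Dn R ∧ ∀ s, s ∈ v.fix c.Dn R → s = 1 ∨ s = r := by
    obtain ⟨a, b, hab, h5⟩ := Nat.card_eq_two_iff.1 hR2
    have h6 : ∀ s : v.fix c.Dn R, s = a ∨ s = b := fun s => by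
      have : s ∈ ({a, b} : Set (v.fix c.Dn R)) := by rw [h5]; trivial
      simpa using this
    rcases h6 1 with h7 | h7
    · refine ⟨b, b.2, fun s hs => ?_⟩
      rcases h6 ⟨s, hs⟩ with h8 | h8
      · left
        have := h8.trans h7.symm
        exact Subtype.ext_iff.1 this
      · right
        exact Subtype.ext_iff.1 h8
    · refine ⟨a, a.2, fun s hs => ?_⟩
      rcases h6 ⟨s, hs⟩ with h8 | h8
      · right
        exact Subtype.ext_iff.1 h8
      · left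
        have := h8.trans h7.symm
        exact Subtype.ext_iff.1 this
  set z := x₁ * x₂ with hz
  have hz₁ : x₂ = x₁⁻¹ * z := by rw [hz]; group
  have hz₂ : x₁ = z * x₂⁻¹ := by rw [hz]; group
  have hzne : z ≠ 1 := by
    intro h5
    apply hx₂R
    apply claimA _ _ hx₂
    rw [hz₁, h5, mul_one]
    exact inv_mem hx₁
  have hzJ2 : z ∈ v.fix c.Dn (VV e S J2) := by
    refine mul_mem (v.fix_anti c.Dn ?_ hx₁) (v.fix_anti c.Dn ?_ hx₂)
    · exact VV_anti e S fun t => Set.subset_union_left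
    · exact VV_anti e S fun t => Set.subset_union_right
  have hzu : ∀ (u : G) (hu : u ∈ VV e S fun _ => ∅), z⁻¹ * v.act c.Dn ⟨u, hUP u hu⟩ z ∈ v.fix c.Dn R := by
    intro u hu
    have h5 := key i j hJK h4 x₁ hx₁ hx₁R u hu
    have h6 := key i' j' hJK' h4' x₂ hx₂ hx₂R u hu
    have e1 : z⁻¹ * v.act c.Dn ⟨u, hUP u hu⟩ z =
        (x₁⁻¹ * v.act c.Dn ⟨u, hUP u hu⟩ x₁) * (x₂⁻¹ * v.act c.Dn ⟨u, hUP u hu⟩ x₂) := by
      rw [hz, map_mul, mul_inv]
      exact mul_mul_mul_comm _ _ _ _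
    rw [e1]
    exact mul_mem h5 h6
  obtain ⟨x, hx, hzx⟩ := exists_ch e hN hNH hL hML c v hJ2K hzne hzJ2
  -- `z ∈ C_V(V_ν)`, `ν` one of the two nodes
  have hfin : z ∈ v.fix c.Dn (VV e S (sgl i j)) ∨ z ∈ v.fix c.Dn (VV e S (sgl i' j')) := by
    by_cases hxB : x ∈ PP e S fun _ => ∅
    · left
      exact fixR_le e hN hNH hL hML hRN c v _ (fix_of_mem_M e hN hNH hL hML hRN c v (hP hJ2K hx) (hBM hxB) hzx)
    obtain ⟨i₁, j₁, hj₁, h5⟩ := PP_desc e hS hx hxB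
    -- the stabiliser of `z` in `U` is in `V_ν`
    have hst : ∀ (u : G) (hu : u ∈ VV e S fun _ => ∅), v.act c.Dn ⟨u, hUP u hu⟩ z = z → u ∈ VV e S (sgl i₁ j₁) := by
      intro u hu h6
      have h7 := c.mem_of_act_eq v (hP hJ2K hx) (hUP u hu) hzne hzx h6
      rw [mem_cj] at h7
      exact h5 u hu (hMJ2 _ (mul_mem (mul_mem (inv_mem hx) (VV_le_PP' e S _ _ hu)) hx) h7)
    have hν : (i₁ = i ∧ j₁ = j) ∨ (i₁ = i' ∧ j₁ = j') := hj₁
    have hq₁ : (VV e S (sgl i₁ j₁)).relIndex (VV e S fun _ => ∅) = 2 := by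
      rcases hν with ⟨rfl, rfl⟩ | ⟨rfl, rfl⟩
      · exact hq
      · exact hq'
    have hzν : z ∈ v.fix c.Dn (VV e S (sgl i₁ j₁)) := by
      -- `u₀ ∈ U - V_ν`
      obtain ⟨u₀, hu₀, hu₀'⟩ : ∃ u₀ ∈ VV e S (fun _ => ∅), u₀ ∉ VV e S (sgl i₁ j₁) := by
        by_contra hcon
        push Not at hcon
        have h6 : VV e S (fun _ => ∅) ≤ VV e S (sgl i₁ j₁) := hcon
        rw [Subgroup.relIndex_eq_one.2 h6] at hq₁
        omega
      have h7 : z⁻¹ * v.act c.Dn ⟨u₀, hUP u₀ hu₀⟩ z = r := by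
        rcases hr1 _ (hzu u₀ hu₀) with h8 | h8
        · exact absurd (hst u₀ hu₀ (inv_mul_eq_one.1 h8).symm) hu₀'
        · exact h8
      intro g hg
      have hgU : (g : G) ∈ VV e S fun _ => ∅ := VV_le_VV e S _ hg
      have hge : (⟨(g : G), hUP g hgU⟩ : PH H e S K) = g := rfl
      by_contra hgz
      have h8 : z⁻¹ * v.act c.Dn g z = r := by
        rcases hr1 _ (hzu g hgU) with h9 | h9
        · exact absurd (inv_mul_eq_one.1 h9).symm hgz
        · exact h9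
      have h9 : v.act c.Dn g z = v.act c.Dn ⟨u₀, hUP u₀ hu₀⟩ z := by
        have := h8.trans h7.symm
        exact mul_left_cancel this
      have h10 : v.act c.Dn (g⁻¹ * ⟨u₀, hUP u₀ hu₀⟩) z = z := by
        have h11 : v.act c.Dn (g⁻¹ * ⟨u₀, hUP u₀ hu₀⟩) z = v.act c.Dn g⁻¹ (v.act c.Dn ⟨u₀, hUP u₀ hu₀⟩ z) := by
          rw [(v.act c.Dn).map_mul]; rfl
        have h12 : v.act c.Dn g⁻¹ (v.act c.Dn g z) = z := by
          rw [← MulAut.mul_apply, ← (v.act c.Dn).map_mul, inv_mul_cancel, (v.act c.Dn).map_one]; rfl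
        rw [h11, ← h9, h12]
      have h11 := hst ((g : G)⁻¹ * u₀) (mul_mem (inv_mem hgU) hu₀) h10
      apply hu₀'
      have e1 : u₀ = (g : G) * ((g : G)⁻¹ * u₀) := by group
      rw [e1]
      exact mul_mem hg h11
    rcases hν with ⟨rfl, rfl⟩ | ⟨rfl, rfl⟩
    · exact Or.inl hzν
    · exact Or.inr hzν
  rcases hfin with h5 | h5
  · apply hx₂R
    apply claimA _ _ hx₂
    rw [hz₁]
    exact mul_mem (inv_mem hx₁) h5
  · apply hx₁R
    apply claimA _ hx₁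
    rw [hz₂]
    exact mul_mem h5 (inv_mem hx₂)

end

end Cfsg.Agent.H737.EPO
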