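import Cfsg.Agent.H737.EPO.RelOne

/-!
# S5745 / S3499, OWN characteristic, `q = 2`: one type only, lines of size 2 (helper737)

Abstract part (no root group data): `one_type`, `line_two`.
-/

set_option autoImplicit false
set_option linter.unusedSectionVars false

namespace Cfsg.Agent.H737.EPO

open Cfsg.Agent.H284
open scoped Pointwise

section

variable {G : Type*} [Group G] [Finite G] {H R P D M W : Subgroup G} {p : ℕ}

/-- a two point stabiliser above another one -/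
theorem two_eq (h : EP H) {x y : G} (hx : x ∉ H) (hy : y ∉ H) (h1 : H ⊓ cj x H ≤ cj y H) :
    H ⊓ cj y H = H ⊓ cj x H := by
  rcases h.two x hx (H ⊓ cj y H) (le_inf inf_le_left h1) inf_le_left with h2 | h2
  · exact h2
  · exact absurd (inf_eq_left.1 h2) (h.not_le_cj hy)

/-- two points of the line of `H`, `H^x` -/
theorem line_eq' (h : EP H) {x y : G} (hx : x ∉ H) (hxy : x⁻¹ * y ∉ H) (h1 : H ⊓ cj x H ≤ cj y H) :
    cj x H ⊓ cj y H = H ⊓ cj x H := by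
  have hx' : x⁻¹ ∉ H := fun e => hx (by rw [← inv_inv x]; exact inv_mem e)
  have e1 : cj x⁻¹ (cj x H ⊓ cj y H) = H ⊓ cj (x⁻¹ * y) H := by rw [cj_inf, cj_inv_cj, ← cj_mul]
  have e2 : cj x⁻¹ (H ⊓ cj x H) = H ⊓ cj x⁻¹ H := by rw [cj_inf, cj_inv_cj, inf_comm]
  have h2 : H ⊓ cj (x⁻¹ * y) H = H ⊓ cj x⁻¹ H := by
    apply two_eq h hx' hxy
    rw [← e2, cj_mul]
    exact cj_mono h1
  have h3 := congrArg (cj x) (e1.trans (h2.trans e2.symm))
  rwa [cj_cj_inv, cj_cj_inv] at h3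

theorem two_le (h : EP H) (hM : M ∈ EP.twoSet H) {M' : Subgroup G} (hM' : M' ∈ EP.twoSet H) (h1 : M' ≤ M) : M = M' := by
  obtain ⟨x, hx, rfl⟩ := hM
  obtain ⟨y, hy, rfl⟩ := hM'
  exact two_eq h hy hx (h1.trans inf_le_right)

theorem stab_wd (hDH : D ≤ H) {w d : G} (hd : d ∈ D) : cj (w * d) H = cj w H := by
  rw [cj_mul, cj_eq_self (hDH hd)]

/-- vectors fixed by `R` normalise `R` -/
theorem norm_of_fix (v : VecB H P D W p) (hPH : P ≤ H) (hRP : R ≤ P) (hDR : D ≤ R) {w : G} (hw : w ∈ W)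
    (hR : R ≤ cj w H) : ∀ r ∈ R, w * r * w⁻¹ ∈ R := by
  intro r hr
  have h1 : w⁻¹ * (r * w * r⁻¹) ∈ D := (v.stab_iff hPH hw (hRP hr)).2 (hR hr)
  have h2 := v.WD w hw _ (inv_mem h1)
  have e1 : w * r * w⁻¹ = (w * (w⁻¹ * (r * w * r⁻¹))⁻¹ * w⁻¹) * r := by group
  rw [e1]
  exact mul_mem (hDR h2) hr

/-- **Claim C**, refined: `P` fixes no vector. -/
theorem claimC' (h : EP H) (hPH : P ≤ H) (hRP : R ≤ P) (hDR : D ≤ R)
    (np : ∀ x ∉ H, R ≤ cj x H → ∀ g ∈ cj x H, (∀ r ∈ R, g * r * g⁻¹ ∈ R) → g ∈ H)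
    (v : VecB H P D W p) (hP2 : P ∈ EP.twoSet H) (hM : M ∈ EP.twoSet H) (hRM : R ≤ M) (hPM : M ≠ P)
    (hpq : ∀ M' ∈ EP.twoSet H, P ⊓ M ≤ M' → M' = M ∨ M' = P) {w : G} (hw : w ∈ W) (hwD : w ∉ D) : ¬ P ≤ cj w H := by
  intro hPw
  have hwH := v.notMem_H hw hwD
  -- `w` centralises `P` mod `D`
  have hfix : ∀ g ∈ P, w⁻¹ * (g * w * g⁻¹) ∈ D := fun g hg => (v.stab_iff hPH hw hg).2 (hPw hg)
  have hcj : ∀ L : Subgroup G, D ≤ L → L ≤ P → cj w L = L := by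
    intro L hDL hLP
    have h1 : cj w⁻¹ L = L := by
      apply cj_eq_of_nm
      intro g hg
      have e1 : w⁻¹ * g * w⁻¹⁻¹ = w⁻¹ * (g * w * g⁻¹) * g := by group
      rw [e1]
      exact mul_mem (hDL (hfix g (hLP hg))) hg
    conv_lhs => rw [← h1]
    rw [cj_cj_inv]
  have hcj' : ∀ L : Subgroup G, D ≤ L → L ≤ P → cj w⁻¹ L = L := by
    intro L hDL hLP
    conv_lhs => rw [← hcj L hDL hLP]
    rw [cj_inv_cj]
  have hRw : ∀ r ∈ R, w * r * w⁻¹ ∈ R := norm_of_fix v hPH hRP hDR hw (hRP.trans hPw)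
  have hPe : H ⊓ cj w H = P := two_le h ⟨w, hwH, rfl⟩ hP2 (le_inf hPH hPw)
  have hwP : cj w P = P := hcj P (hDR.trans hRP) le_rfl
  have hwP' : cj w⁻¹ P = P := hcj' P (hDR.trans hRP) le_rfl
  have hPnM : ¬ P ≤ M := fun e => hPM (two_le h hM hP2 e)
  obtain ⟨y, hy, rfl⟩ := hM
  have hDL : D ≤ P ⊓ (H ⊓ cj y H) := le_inf (hDR.trans hRP) (hDR.trans hRM)
  have hL1 := hcj _ hDL inf_le_left
  have hL2 := hcj' _ hDL inf_le_left
  have hPy : ¬ P ≤ cj y H := fun e => hPnM (le_inf hPH e)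
  have key : ∀ z : G, cj z P = P → cj z⁻¹ P = P → cj z (P ⊓ (H ⊓ cj y H)) = P ⊓ (H ⊓ cj y H) →
      z * y ∉ H ∧ H ⊓ cj (z * y) H = H ⊓ cj y H := by
    intro z hz hz' hzL
    have hnP : ¬ P ≤ cj (z * y) H := by
      intro e1
      apply hPy
      rw [cj_mul] at e1
      have h1 := cj_mono (x := z⁻¹) e1
      rwa [hz', cj_inv_cj] at h1
    have h1 : z * y ∉ H := by
      intro h1
      apply hnP
      rw [cj_eq_self h1]
      exact hPH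
    refine ⟨h1, ?_⟩
    rcases hpq (H ⊓ cj (z * y) H) ⟨_, h1, rfl⟩ (le_inf (inf_le_left.trans hPH) (by
      rw [← hzL, cj_mul]
      exact cj_mono (inf_le_right.trans inf_le_right))) with h2 | h2
    · exact h2
    · exact absurd (h2.ge.trans inf_le_right) hnP
  obtain ⟨h1, h2⟩ := key w hwP hwP' hL1
  obtain ⟨h3, h4⟩ := key w⁻¹ hwP' (by rw [inv_inv]; exact hwP) hL2
  -- `b ≠ b'`
  have hb : y⁻¹ * (w * y) ∉ H := by
    intro h5
    apply hwH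
    refine np y hy (hRM.trans inf_le_right) w ?_ hRw
    rw [mem_cj, mul_assoc]
    exact h5
  have h5 : cj y H ⊓ cj (w * y) H = H ⊓ cj y H := line_eq' h hy hb (h2.ge.trans inf_le_right)
  have h6 : cj w H ⊓ cj y H = cj w (H ⊓ cj y H) := by
    have e1 : cj w (H ⊓ cj (w⁻¹ * y) H) = cj w H ⊓ cj y H := by rw [cj_inf, ← cj_mul, mul_inv_cancel_left]
    rw [← e1, h4]
  have h7 : cj w H ⊓ cj (w * y) H = cj w (H ⊓ cj y H) := by rw [cj_inf, ← cj_mul]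
  have h8 : cj w (H ⊓ cj y H) ≤ H ⊓ cj y H :=
    (le_inf (h6.ge.trans inf_le_right) (h7.ge.trans inf_le_right)).trans h5.le
  have h9 : cj w (H ⊓ cj y H) = H ⊓ cj y H := Subgroup.eq_of_le_of_card_ge h8 (by rw [card_cj])
  have h10 : H ⊓ cj y H ≤ cj w H := by
    rw [← h9, ← h6]; exact inf_le_left
  have h11 := two_le h ⟨w, hwH, rfl⟩ ⟨y, hy, rfl⟩ (le_inf inf_le_left h10)
  exact hPM (h11.symm.trans hPe)

/-- **one type only** -/
theorem one_type (h : EP H) (hPH : P ≤ H) (hRP : R ≤ P) (hDR : D ≤ R) (hD1 : D ≠ ⊥)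
    (hDn : ∀ g ∈ P, ∀ d ∈ D, g * d * g⁻¹ ∈ D)
    (np : ∀ x ∉ H, R ≤ cj x H → ∀ g ∈ cj x H, (∀ r ∈ R, g * r * g⁻¹ ∈ R) → g ∈ H)
    (v : VecB H P D W p) (hWD : W ≠ D) (hP2 : P ∈ EP.twoSet H)
    (par : ∀ M' ∈ EP.twoSet H, D ≤ M' → ∃ g ∈ P, R ≤ cj g M')
    (hpq : ∀ M ∈ EP.twoSet H, R ≤ M → ∀ M' ∈ EP.twoSet H, P ⊓ M ≤ M' → M' = M ∨ M' = P)
    (hM : M ∈ EP.twoSet H) (hRM : R ≤ M) : M = P := by
  by_contra hPM
  have hC : ∀ w ∈ W, w ∉ D → ¬ P ≤ cj w H := fun w hw hwD =>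
    claimC' h hPH hRP hDR np v hP2 hM hRM hPM (hpq M hM hRM) hw hwD
  have hDH : D ≤ H := (hDR.trans hRP).trans hPH
  -- a vector fixed by `R`
  obtain ⟨w, hw, hwD, hRw⟩ : ∃ w ∈ W, w ∉ D ∧ R ≤ cj w H := by
    obtain ⟨w, hw, hwD⟩ : ∃ w ∈ W, w ∉ D := by
      by_contra hcon
      push Not at hcon
      exact hWD (le_antisymm hcon v.DW)
    have hDw : D ≤ H ⊓ cj w H := by
      refine le_inf hDH ?_
      rw [← cj_eq_of_nm (v.WD w hw)]
      exact cj_mono hDH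
    obtain ⟨g, hg, hR⟩ := par _ ⟨w, v.notMem_H hw hwD, rfl⟩ hDw
    rw [PanelB.cj_two (hPH hg)] at hR
    refine ⟨g * w * g⁻¹, v.Wn g hg w hw, ?_, hR.trans inf_le_right⟩
    intro h1
    apply hwD
    have := hDn g⁻¹ (inv_mem hg) _ h1
    have e2 : g⁻¹ * (g * w * g⁻¹) * g⁻¹⁻¹ = w := by group
    rwa [e2] at this
  clear hM hRM hPM
  have hwH := v.notMem_H hw hwD
  set M := H ⊓ cj w H with hMdef
  have hM : M ∈ EP.twoSet H := ⟨w, hwH, rfl⟩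
  have hRM : R ≤ M := le_inf (hRP.trans hPH) hRw
  have hPM : M ≠ P := fun e1 => hC w hw hwD (by rw [← e1]; exact inf_le_right)
  have hwiD : w⁻¹ ∉ D := fun e1 => hwD (by rw [← inv_inv w]; exact inv_mem e1)
  have hPwi : ¬ P ≤ cj w⁻¹ H := hC w⁻¹ (inv_mem hw) hwiD
  have hfix : ∀ g ∈ P, g ∈ M → w⁻¹ * (g * w * g⁻¹) ∈ D := fun g hg hgM => (v.stab_iff hPH hw hg).2 hgM.2
  obtain ⟨y, hy, hyP⟩ := hP2
  -- `w y`
  have h1 : P ⊓ M ≤ cj (w * y) H := by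
    rintro g ⟨hgP, hgM⟩
    rw [cj_mul, mem_cj]
    have h2 : w⁻¹ * g * w ∈ P := by
      have e1 : w⁻¹ * g * w = w⁻¹ * (g * w * g⁻¹) * g := by group
      rw [e1]
      exact mul_mem (hRP (hDR (hfix g hgP hgM))) hgP
    rw [hyP] at h2
    exact h2.2
  have h2 : w * y ∉ H := by
    intro h3
    apply hPwi
    have h4 : cj y H = cj w⁻¹ H := by
      have e1 : y = w⁻¹ * (w * y) := by group
      rw [e1, cj_mul, cj_eq_self h3]
    rw [← h4, hyP]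
    exact inf_le_right
  rcases hpq M hM hRM _ ⟨w * y, h2, rfl⟩ (le_inf (inf_le_left.trans hPH) h1) with h3 | h3
  · -- the line of `w a`, `w b` is the line of `a`, `w a`
    have h4 : cj w H ⊓ cj (w * y) H = H ⊓ cj w H := line_eq' h hwH (by rwa [inv_mul_cancel_left]) (by
      rw [← hMdef, ← h3]; exact inf_le_right)
    have h5 : cj w P = M := by
      rw [hMdef, ← h4, hyP, cj_inf, ← cj_mul]
    apply hPwi
    rw [← cj_le_iff, h5]
    exact inf_le_left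
  · -- `P` fixes `b` and `w b`
    have hyP' : P ≤ cj y H := hyP.le.trans inf_le_right
    have h4 : ∀ g ∈ P, w⁻¹ * (g * w * g⁻¹) ∈ D := by
      intro g hg
      have h5 : g ∈ cj (w * y) H := h3.ge.trans inf_le_right hg
      rw [cj_mul, mem_cj] at h5
      have hu : w⁻¹ * (g * w * g⁻¹) ∈ cj y H := by
        have e1 : w⁻¹ * (g * w * g⁻¹) = w⁻¹ * g * w * g⁻¹ := by group
        rw [e1]
        exact mul_mem h5 (inv_mem (hyP' hg))
      have huW : w⁻¹ * (g * w * g⁻¹) ∈ W := mul_mem (inv_mem hw) (v.Wn g hg w hw)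
      -- `u ∈ W ∩ H^y` normalises `D`
      have hy' : y⁻¹ ∉ H := fun e1 => hy (by rw [← inv_inv y]; exact inv_mem e1)
      have h6 : y⁻¹ * (w⁻¹ * (g * w * g⁻¹)) * y ∈ cj y⁻¹ H := by
        apply h.norm hy' (X := cj y⁻¹ D)
        · refine le_inf ?_ (cj_mono hDH)
          rw [cj_le_iff, inv_inv]
          exact (hDR.trans hRP).trans hyP'
        · rintro m hm _ ⟨d, hd, rfl⟩
          have h7 : y * m * y⁻¹ ∈ P := by
            rw [hyP]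
            refine ⟨?_, conj_mem_cj hm.1⟩
            have := mem_cj.1 hm.2
            rwa [inv_inv] at this
          have h8 := hDn _ h7 d hd
          refine ⟨_, h8, ?_⟩
          show y⁻¹ * (y * m * y⁻¹ * d * (y * m * y⁻¹)⁻¹) * y⁻¹⁻¹ = m * (y⁻¹ * d * y⁻¹⁻¹) * m⁻¹
          group
        · intro h7
          exact hD1 (cj_eq_bot_iff.1 h7)
        · exact mem_cj.1 hu
        · rintro _ ⟨d, hd, rfl⟩
          have h8 := v.WD _ huW d hd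
          refine ⟨_, h8, ?_⟩
          show y⁻¹ * (w⁻¹ * (g * w * g⁻¹) * d * (w⁻¹ * (g * w * g⁻¹))⁻¹) * y⁻¹⁻¹ =
            y⁻¹ * (w⁻¹ * (g * w * g⁻¹)) * y * (y⁻¹ * d * y⁻¹⁻¹) * (y⁻¹ * (w⁻¹ * (g * w * g⁻¹)) * y)⁻¹
          group
      have h7 : w⁻¹ * (g * w * g⁻¹) ∈ H := by
        rw [mem_cj] at h6
        have e1 : y⁻¹⁻¹ * (y⁻¹ * (w⁻¹ * (g * w * g⁻¹)) * y) * y⁻¹ = w⁻¹ * (g * w * g⁻¹) := by group
        rwa [e1] at h6
      rw [← v.WH]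
      exact ⟨huW, h7⟩
    apply hC w hw hwD
    intro g hg
    exact (v.stab_iff hPH hw hg).1 (h4 g hg)

/-- **lines of size 2** -/
theorem line_two (c : PanelB H R P D M 2) (v : VecB H P D W 2) (hV : Nat.card v.Vec = 4)
    (hR2 : Nat.card (v.fix c.Dn R) = 2) (hall : ∀ M' ∈ EP.twoSet H, D ≤ M' → ∃ g ∈ P, M' = cj g M) {w : G}
    (hw : w ∈ W) (hwD : w ∉ D) (hwM : H ⊓ cj w H = M) {x : G} (hx : M ≤ cj x H) : x ∈ H ∨ w⁻¹ * x ∈ H := by
  classical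
  by_contra hcon
  push Not at hcon
  obtain ⟨hxH, hwx⟩ := hcon
  have h := c.ep
  have hDH := c.DH
  have hPH := c.PH
  have hRP := c.RP
  have hwH := v.notMem_H hw hwD
  have hmk : ∀ (u : G) (hu : u ∈ W), v.vec ⟨u, hu⟩ ∈ v.fix c.Dn R ↔ R ≤ cj u H := by
    intro u hu
    rw [v.vec_mem_fix c.Dn hPH, inf_eq_left.2 hRP]
  have hRw : R ≤ cj w H := by
    have := c.RM
    rw [← hwM] at this
    exact this.trans inf_le_right
  -- a second vector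
  obtain ⟨w₂, hw₂, hRw₂⟩ : ∃ w₂ ∈ W, ¬ R ≤ cj w₂ H := by
    by_contra hcon
    push Not at hcon
    have h1 : v.fix c.Dn R = ⊤ := by
      rw [eq_top_iff]
      intro z _
      obtain ⟨⟨u, hu⟩, rfl⟩ := v.vec_surjective z
      exact (hmk u hu).2 (hcon u hu)
    rw [h1, Subgroup.card_top] at hR2
    omega
  have hdd : ∀ u ∈ W, ∀ u' ∈ W, u⁻¹ * u' ∈ D → cj u' H = cj u H := by
    intro u _ u' _ hd
    have e1 : u' = u * (u⁻¹ * u') := by group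
    rw [e1, stab_wd hDH hd]
  have hww : w * w ∈ D := by have := v.pow w hw; rwa [pow_two] at this
  have hww₂ : w₂ * w₂ ∈ D := by have := v.pow w₂ hw₂; rwa [pow_two] at this
  have hwD' : ∀ u ∈ W, ∀ d ∈ D, u⁻¹ * d * u ∈ D := by
    intro u hu d hd
    have := v.WD u⁻¹ (inv_mem hu) d hd
    rwa [inv_inv] at this
  have hw₂D : w₂ ∉ D := fun e1 => hRw₂ (by rw [cj_eq_self (hDH e1)]; exact c.RH)
  have hw₁₂ : w⁻¹ * w₂ ∉ D := fun e1 => hRw₂ (by rw [hdd w hw w₂ hw₂ e1]; exact hRw)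
  have hfixmul : ∀ u ∈ W, ∀ u' ∈ W, R ≤ cj u H → R ≤ cj (u * u') H → R ≤ cj u' H := by
    intro u hu u' hu' h1 h2
    have h3 := (hmk u hu).2 h1
    have h4 := (hmk (u * u') (mul_mem hu hu')).2 h2
    have e1 : v.vec ⟨u * u', mul_mem hu hu'⟩ = v.vec ⟨u, hu⟩ * v.vec ⟨u', hu'⟩ := by
      rw [← map_mul]
      rfl
    rw [e1] at h4
    exact (hmk u' hu').1 (((v.fix c.Dn R).mul_mem_cancel_left h3).1 h4)
  have hw₃D : w * w₂ ∉ D := by
    intro e1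
    apply hRw₂
    apply hfixmul w hw w₂ hw₂ hRw
    rw [cj_eq_self (hDH e1)]
    exact c.RH
  -- the four vectors
  have hfour : ∀ u ∈ W, u ∉ D → w⁻¹ * u ∈ D ∨ w₂⁻¹ * u ∈ D ∨ (w * w₂)⁻¹ * u ∈ D := by
    intro u hu huD
    by_contra hcon
    push Not at hcon
    obtain ⟨g1, g2, g3⟩ := hcon
    let f : Fin 5 → v.Vec := ![1, v.vec ⟨w, hw⟩, v.vec ⟨w₂, hw₂⟩, v.vec ⟨w * w₂, mul_mem hw hw₂⟩, v.vec ⟨u, hu⟩]
    have hinj : Function.Injective f := by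
      have a01 : (1 : v.Vec) ≠ v.vec ⟨w, hw⟩ := fun e1 => hwD (v.vec_eq_one.1 e1.symm)
      have a02 : (1 : v.Vec) ≠ v.vec ⟨w₂, hw₂⟩ := fun e1 => hw₂D (v.vec_eq_one.1 e1.symm)
      have a03 : (1 : v.Vec) ≠ v.vec ⟨w * w₂, mul_mem hw hw₂⟩ := fun e1 => hw₃D (v.vec_eq_one.1 e1.symm)
      have a04 : (1 : v.Vec) ≠ v.vec ⟨u, hu⟩ := fun e1 => huD (v.vec_eq_one.1 e1.symm)
      have a12 : v.vec ⟨w, hw⟩ ≠ v.vec ⟨w₂, hw₂⟩ := fun e1 => hw₁₂ (v.vec_eq_iff.1 e1)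
      have a13 : v.vec ⟨w, hw⟩ ≠ v.vec ⟨w * w₂, mul_mem hw hw₂⟩ := fun e1 => hw₂D (by
        have := v.vec_eq_iff.1 e1
        have e2 : w⁻¹ * (w * w₂) = w₂ := by group
        have e3 : w⁻¹ * (w * w₂) ∈ D := this
        rwa [e2] at e3)
      have a23 : v.vec ⟨w₂, hw₂⟩ ≠ v.vec ⟨w * w₂, mul_mem hw hw₂⟩ := fun e1 => hwD (by
        have e3 : w₂⁻¹ * (w * w₂) ∈ D := v.vec_eq_iff.1 e1
        have e4 := v.WD w₂ hw₂ _ e3
        have e2 : w₂ * (w₂⁻¹ * (w * w₂)) * w₂⁻¹ = w := by group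
        rwa [e2] at e4)
      have a14 : v.vec ⟨w, hw⟩ ≠ v.vec ⟨u, hu⟩ := fun e1 => g1 (v.vec_eq_iff.1 e1)
      have a24 : v.vec ⟨w₂, hw₂⟩ ≠ v.vec ⟨u, hu⟩ := fun e1 => g2 (v.vec_eq_iff.1 e1)
      have a34 : v.vec ⟨w * w₂, mul_mem hw hw₂⟩ ≠ v.vec ⟨u, hu⟩ := fun e1 => g3 (v.vec_eq_iff.1 e1)
      intro i j hij
      fin_cases i <;> fin_cases j <;> first | rfl | exact absurd hij ‹_› | exact absurd hij.symm ‹_›
    have h1 := Nat.card_le_card_of_injective f hinj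
    rw [hV, Nat.card_fin] at h1
    omega
  -- two point stabilisers above `D`
  have hthree : ∀ M' ∈ EP.twoSet H, D ≤ M' → M' = M ∨ M' = H ⊓ cj w₂ H ∨ M' = H ⊓ cj (w * w₂) H := by
    intro M' hM' hDM'
    obtain ⟨g, hg, rfl⟩ := hall M' hM' hDM'
    have h1 : cj g M = H ⊓ cj (g * w * g⁻¹) H := by rw [← hwM, PanelB.cj_two (hPH hg)]
    have hu := v.Wn g hg w hw
    have huD : g * w * g⁻¹ ∉ D := by
      intro h2
      apply hwD
      have := c.Dn g⁻¹ (inv_mem hg) _ h2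
      have e2 : g⁻¹ * (g * w * g⁻¹) * g⁻¹⁻¹ = w := by group
      rwa [e2] at this
    rw [h1]
    rcases hfour _ hu huD with h2 | h2 | h2
    · left
      rw [hdd w hw _ hu h2, hwM]
    · right; left
      rw [hdd w₂ hw₂ _ hu h2]
    · right; right
      rw [hdd (w * w₂) (mul_mem hw hw₂) _ hu h2]
  have hRn : ∀ r ∈ R, w * r * w⁻¹ ∈ R := norm_of_fix v hPH hRP c.DR hw hRw
  -- `w` normalises `M`
  have hwwH : cj (w * w) H = H := cj_eq_self (hDH hww)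
  have hwMM : cj w M = M := by
    rw [← hwM, cj_inf, ← cj_mul, hwwH, inf_comm]
  have hwMM' : cj w⁻¹ M = M := by
    conv_lhs => rw [← hwMM]
    rw [cj_inv_cj]
  have hMH : M ≤ H := c.MH
  have hDM : D ≤ M := c.DR.trans c.RM
  have hMx : H ⊓ cj x H = M := two_le h ⟨x, hxH, rfl⟩ c.M2 (le_inf hMH hx)
  have hMw₂ : H ⊓ cj w₂ H ≠ M := fun e1 => hRw₂ (c.RM.trans (e1.ge.trans inf_le_right))
  have hw₂H := v.notMem_H hw₂ hw₂D
  -- `y = w₂⁻¹ x`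
  have hyH : w₂⁻¹ * x ∉ H := by
    intro e1
    apply hRw₂
    have e2 : cj x H = cj w₂ H := by
      have e3 : x = w₂ * (w₂⁻¹ * x) := by group
      rw [e3, cj_mul, cj_eq_self e1]
    rw [← e2]
    exact c.RM.trans hx
  have hcDw₂ : cj w₂⁻¹ D = D := cj_eq_of_nm (v.WD w₂⁻¹ (inv_mem hw₂))
  have hDy : D ≤ cj (w₂⁻¹ * x) H := by
    rw [cj_mul, ← hcDw₂]
    exact cj_mono (hDM.trans hx)
  have hw₂w₂H : cj (w₂ * w₂) H = H := cj_eq_self (hDH hww₂)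
  have hback : cj w₂ (H ⊓ cj (w₂⁻¹ * x) H) = cj w₂ H ⊓ cj x H := by
    rw [cj_inf, ← cj_mul, mul_inv_cancel_left]
  rcases hthree _ ⟨_, hyH, rfl⟩ (le_inf hDH hDy) with h1 | h1 | h1
  · -- `x` is on `a₂ a₃`, so fixed by `w`
    have hu : w₂⁻¹ * w * w₂ ∈ W := mul_mem (mul_mem (inv_mem hw₂) hw) hw₂
    have hud : w⁻¹ * (w₂⁻¹ * w * w₂) ∈ D := by
      have h2 := v.comm w⁻¹ (inv_mem hw) w₂⁻¹ (inv_mem hw₂)
      rw [inv_inv, inv_inv] at h2
      have e1 : w⁻¹ * (w₂⁻¹ * w * w₂) = w⁻¹ * w₂⁻¹ * w * w₂ := by group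
      rw [e1]
      exact h2
    have huM : cj (w₂⁻¹ * w * w₂) M = M := by
      have e1 : w₂⁻¹ * w * w₂ = w * (w⁻¹ * (w₂⁻¹ * w * w₂)) := by group
      rw [e1, cj_mul, cj_eq_self (hDM hud), hwMM]
    have h2 : M ≤ cj (w₂⁻¹ * (w * x)) H := by
      have e1 : w₂⁻¹ * (w * x) = (w₂⁻¹ * w * w₂) * (w₂⁻¹ * x) := by group
      rw [e1, cj_mul, ← huM]
      apply cj_mono
      rw [← h1]
      exact inf_le_right
    have h3 : M ≤ cj (w * x) H := by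
      rw [cj_mul, ← hwMM]
      exact cj_mono hx
    have h4 : x⁻¹ * w * x ∈ H := by
      by_contra h5
      have h5' : x⁻¹ * (w * x) ∉ H := by rwa [← mul_assoc]
      have h6 : cj x H ⊓ cj (w * x) H = M := by
        rw [← hMx]
        exact line_eq' h hxH h5' (by rw [hMx]; exact h3)
      have h7 : cj (w₂⁻¹ * x) H ⊓ cj (w₂⁻¹ * (w * x)) H = M := by
        rw [← h1]
        refine line_eq' h hyH ?_ (by rw [h1]; exact h2)
        have e1 : (w₂⁻¹ * x)⁻¹ * (w₂⁻¹ * (w * x)) = x⁻¹ * (w * x) := by group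
        rwa [e1]
      have h8 : cj w₂ M = M := by
        have h9 := congrArg (cj w₂) h7
        rw [cj_inf, ← cj_mul, ← cj_mul, mul_inv_cancel_left, mul_inv_cancel_left, h6] at h9
        exact h9.symm
      apply hRw₂
      refine c.RM.trans ?_
      rw [← h8]
      exact cj_mono hMH
    exact hwH (c.norm_point hxH (c.RM.trans hx) (mem_cj.2 h4) hRn)
  · -- `x` on the line of `a`, `a₂`
    rw [h1, cj_inf, ← cj_mul, hw₂w₂H] at hback
    have h2 : H ⊓ cj w₂ H ≤ cj x H := by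
      rw [inf_comm, hback]
      exact inf_le_right
    have h3 := two_eq h hw₂H hxH h2
    exact hMw₂ (h3.symm.trans hMx)
  · -- `x` on the line of `a₁`, `a₂`
    have h2 : cj (w₂ * (w * w₂)) H = cj w H := by
      apply hdd w hw _ (mul_mem hw₂ (mul_mem hw hw₂))
      have h3 := v.comm w⁻¹ (inv_mem hw) w₂ hw₂
      rw [inv_inv] at h3
      have e1 : w⁻¹ * (w₂ * (w * w₂)) = w⁻¹ * w₂ * w * w₂⁻¹ * (w₂ * w₂) := by group
      rw [e1]
      exact mul_mem h3 hww₂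
    rw [h1, cj_inf, ← cj_mul, h2] at hback
    have h3 : cj x H ⊓ cj w H = M := by
      rw [← hMx]
      apply line_eq' h hxH
      · intro e1
        apply hwx
        have := inv_mem e1
        rwa [mul_inv_rev, inv_inv] at this
      · rw [hMx, ← hwM]
        exact inf_le_right
    have h4 : cj w₂ H ⊓ cj w H ≤ M := by
      rw [← h3]
      exact le_inf (hback.le.trans inf_le_right) inf_le_right
    have h5 : H ⊓ cj (w⁻¹ * w₂) H ≤ M := by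
      have h6 := cj_mono (x := w⁻¹) h4
      rwa [cj_inf, ← cj_mul, cj_inv_cj, hwMM', inf_comm] at h6
    have hn : w⁻¹ * w₂ ∉ H := fun e1 => hw₁₂ (by
      rw [← v.WH]; exact ⟨W.mul_mem (W.inv_mem hw) hw₂, e1⟩)
    have h6 := two_le h c.M2 ⟨_, hn, rfl⟩ h5
    have h7 : R ≤ cj (w⁻¹ * w₂) H := c.RM.trans (h6.le.trans inf_le_right)
    apply hRw₂
    apply hfixmul w⁻¹ (inv_mem hw) w₂ hw₂ _ h7
    have h8 := cj_mono (x := w⁻¹) (c.RM)
    have h9 : R ≤ M := c.RM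
    rw [← hwMM', ] at h9
    refine h9.trans (cj_mono hMH)

end

end Cfsg.Agent.H737.EPO
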